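import Cfsg.Agent.LThreeMB.Quo
import Cfsg.Agent.H849.ThreeNorm_m3
import Cfsg.Agent.LThreeMB.CEight
import Cfsg.Agent.LThreeCo1.Ranks
import Cfsg.Agent.KFacts.Th.Main
import Cfsg.Agent.MonsterX.ThOneClass
import Cfsg.Agent.MonsterU.AmalElts
import Cfsg.Agent.MFive.Row
import Cfsg.Agent.MonsterN.LitFin
import Cfsg.Agent.S1704
import Cfsg.Agent.ThType.Main
import Cfsg.Agent.FastGrp
import Cfsg.Agent.Prune
set_option linter.all false

section
prune_inst 0x7f00000000000000000000000000000000000000000000000000000000000000000000000000000000000000000000000000000000000000000000000000000000000000000000000000000000000000003fffffffffffffffffffffffffffbeffbdffffffff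

-- part: MSevenT/Closed
section
set_option linter.all false
open scoped Cfsg.Agent.FastGrp

-- merged: Cfsg.Agent.MSevenT.Abs
section

/-!
# `C(x)` for `x` of odd order inverted by an involution acting trivially on `C(x) / ⟨x⟩` (helper72)

* `exists_inv` : if `x ~ x⁻¹`, every automorphism of `C(x)/⟨x⟩` is inner and `Z(C(x)/⟨x⟩) = 1`, then an involution `t`
  inverts `x` and acts trivially on `C(x)/⟨x⟩`;
* `TT.exists_equiv` : then `C(x) ∩ C(t) ≅ C(x)/⟨x⟩`;
* `TT.conj_z` : if `C(x)/⟨x⟩` has one class of involutions, all involutions of `C(x)` are conjugate.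
-/

set_option autoImplicit false

namespace Cfsg.Agent.MSevenT

open Cfsg.Agent.LThreeMB (XX Zx mk mk_eq_mk mk_eq_one mk_mul exists_mk mk_congr)
open Subgroup (centralizer zpowers mem_centralizer_singleton_iff)

universe u

variable {G : Type u} [Group G]

/-- an element normalizing `⟨x⟩` acts on `C(x)` -/
theorem norm_comm {x n : G} (hn : n * x * n⁻¹ = x⁻¹) {c : G} (hc : c * x = x * c) :
    (n * c * n⁻¹) * x = x * (n * c * n⁻¹) := by
  have h1 : x = n * x⁻¹ * n⁻¹ := by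
    calc x = (x⁻¹)⁻¹ := (inv_inv x).symm
      _ = (n * x * n⁻¹)⁻¹ := by rw [hn]
      _ = n * x⁻¹ * n⁻¹ := by group
  have h2 : c * x⁻¹ = x⁻¹ * c := by
    rw [mul_inv_eq_iff_eq_mul, mul_assoc, hc, inv_mul_cancel_left]
  calc (n * c * n⁻¹) * x = (n * c * n⁻¹) * (n * x⁻¹ * n⁻¹) := by rw [← h1]
    _ = n * (c * x⁻¹) * n⁻¹ := by group
    _ = n * (x⁻¹ * c) * n⁻¹ := by rw [h2]
    _ = (n * x⁻¹ * n⁻¹) * (n * c * n⁻¹) := by group
    _ = x * (n * c * n⁻¹) := by rw [← h1]

/-- **The involution.** -/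
theorem exists_inv {x n : G} (hodd : Odd (orderOf x)) (hx1 : x ≠ 1) (hn : n * x * n⁻¹ = x⁻¹)
    (hinn : ∀ α : MulAut (XX x), ∃ k, α = MulAut.conj k)
    (hcen : ∀ k : XX x, (∀ g, g * k = k * g) → k = 1) :
    ∃ t : G, orderOf t = 2 ∧ t * x * t⁻¹ = x⁻¹ ∧ ∀ c : G, c * x = x * c → ∃ i : ℤ, t * c * t⁻¹ = c * x ^ i := by
  -- the automorphism of `C(x)`
  have hn' : n⁻¹ * x * n⁻¹⁻¹ = x⁻¹ := by
    calc n⁻¹ * x * n⁻¹⁻¹ = n⁻¹ * ((n * x * n⁻¹)⁻¹) * n := by rw [hn]; group
      _ = x⁻¹ := by group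
  let a : ↥(centralizer ({x} : Set G)) ≃* ↥(centralizer ({x} : Set G)) :=
    { toFun := fun c => ⟨n * c * n⁻¹, mem_centralizer_singleton_iff.2
        (norm_comm hn (mem_centralizer_singleton_iff.1 c.2))⟩
      invFun := fun c => ⟨n⁻¹ * c * n⁻¹⁻¹, mem_centralizer_singleton_iff.2
        (norm_comm hn' (mem_centralizer_singleton_iff.1 c.2))⟩
      left_inv := fun c => Subtype.ext (by show n⁻¹ * (n * (c : G) * n⁻¹) * n⁻¹⁻¹ = c; group)
      right_inv := fun c => Subtype.ext (by show n * (n⁻¹ * (c : G) * n⁻¹⁻¹) * n⁻¹ = c; group)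
      map_mul' := fun c d => Subtype.ext (by
        show n * ((c : G) * d) * n⁻¹ = (n * c * n⁻¹) * (n * d * n⁻¹); group) }
  have haZ : (Zx x).map (a : ↥(centralizer ({x} : Set G)) →* ↥(centralizer ({x} : Set G))) = Zx x := by
    have h1 : a (LThreeMB.self x) = (LThreeMB.self x)⁻¹ := Subtype.ext hn
    rw [Zx, MonoidHom.map_zpowers]
    show zpowers (a (LThreeMB.self x)) = _
    rw [h1, Subgroup.zpowers_inv]
  let α : MulAut (XX x) := QuotientGroup.congr (Zx x) (Zx x) a haZ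
  obtain ⟨k, hk⟩ := hinn α
  obtain ⟨c, hc, rfl⟩ := exists_mk k
  -- `t = c⁻¹ n`
  have hcx : c⁻¹ * x⁻¹ * c = x⁻¹ := by
    have h2 : x⁻¹ * c = c * x⁻¹ := by
      rw [eq_mul_inv_iff_mul_eq, mul_assoc, hc, inv_mul_cancel_left]
    rw [mul_assoc, h2, inv_mul_cancel_left]
  have ht : (c⁻¹ * n) * x * (c⁻¹ * n)⁻¹ = x⁻¹ := by
    calc (c⁻¹ * n) * x * (c⁻¹ * n)⁻¹ = c⁻¹ * (n * x * n⁻¹) * c := by group
      _ = x⁻¹ := by rw [hn, hcx]
  have hact : ∀ d : G, d * x = x * d → ∃ i : ℤ, (c⁻¹ * n) * d * (c⁻¹ * n)⁻¹ = d * x ^ i := by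
    intro d hd
    have h1 := norm_comm hn hd
    have h2 : mk x h1 = mk x hc * mk x hd * (mk x hc)⁻¹ := by
      have h3 : α (mk x hd) = mk x h1 := rfl
      rw [← h3, hk]
      rfl
    have h4 : (c * d * c⁻¹) * x = x * (c * d * c⁻¹) := LThreeMB.conj_comm hc hd
    have h5 : mk x h1 = mk x h4 := h2
    obtain ⟨i, hi⟩ := (mk_eq_mk h4 h1).1 h5.symm
    have h6 : c * x ^ i = x ^ i * c := by
      have h7 : Commute c x := hc
      exact h7.zpow_right i
    refine ⟨i, ?_⟩
    calc (c⁻¹ * n) * d * (c⁻¹ * n)⁻¹ = c⁻¹ * (n * d * n⁻¹) * c := by group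
      _ = c⁻¹ * (c * d * c⁻¹ * x ^ i) * c := by rw [hi]
      _ = d * c⁻¹ * (x ^ i * c) := by group
      _ = d * c⁻¹ * (c * x ^ i) := by rw [h6]
      _ = d * x ^ i := by group
  set t := c⁻¹ * n with htdef
  -- `t²` is central modulo `⟨x⟩`
  have ht2 : (t * t) * x = x * (t * t) := by
    have h1 : t * x = x⁻¹ * t := by rw [← ht]; group
    have h2 : t * x⁻¹ = x * t := by
      calc t * x⁻¹ = (t * x * t⁻¹)⁻¹ * t := by group
        _ = x * t := by rw [ht, inv_inv]
    rw [mul_assoc, h1, ← mul_assoc, h2, mul_assoc]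
  have htt : mk x ht2 = 1 := by
    refine hcen _ fun g => ?_
    obtain ⟨d, hd, rfl⟩ := exists_mk g
    obtain ⟨i, hi⟩ := hact d hd
    have hdi : (t * d * t⁻¹) * x = x * (t * d * t⁻¹) := norm_comm ht hd
    have h1 : (t * t) * d * (t * t)⁻¹ = d := by
      calc (t * t) * d * (t * t)⁻¹ = t * (t * d * t⁻¹) * t⁻¹ := by group
        _ = t * (d * x ^ i) * t⁻¹ := by rw [hi]
        _ = (t * d * t⁻¹) * (t * x * t⁻¹) ^ i := by rw [conj_zpow]; group
        _ = (t * d * t⁻¹) * (x⁻¹) ^ i := by rw [ht]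
        _ = d * x ^ i * (x⁻¹) ^ i := by rw [hi]
        _ = d := by rw [inv_zpow]; group
    have h2 : (t * t) * d = d * (t * t) := by
      calc (t * t) * d = ((t * t) * d * (t * t)⁻¹) * (t * t) := by group
        _ = d * (t * t) := by rw [h1]
    have h3 : (d * (t * t)) * x = x * (d * (t * t)) := by rw [mul_assoc, ht2, ← mul_assoc, hd, mul_assoc]
    have h4 : ((t * t) * d) * x = x * ((t * t) * d) := by rw [h2]; exact h3
    rw [mk_mul hd ht2 h3, mk_mul ht2 hd h4]
    exact mk_congr _ _ h2.symm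
  obtain ⟨i, hi⟩ := (mk_eq_one ht2).1 htt
  -- `t² = x^i` commutes with `t`
  have h1 : x ^ (2 * i) = 1 := by
    have h2 : t * (x ^ i) * t⁻¹ = x ^ i := by rw [hi]; group
    have h3 : t * (x ^ i) * t⁻¹ = (x⁻¹) ^ i := by rw [← conj_zpow, ht]
    rw [h3, inv_zpow] at h2
    calc x ^ (2 * i) = x ^ i * x ^ i := by rw [two_mul, zpow_add]
      _ = x ^ i * (x ^ i)⁻¹ := by rw [h2]
      _ = 1 := mul_inv_cancel _
  have h2 : x ^ i = 1 := by
    have h3 : (orderOf x : ℤ) ∣ 2 * i := orderOf_dvd_iff_zpow_eq_one.2 h1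
    have h4 : IsCoprime (orderOf x : ℤ) 2 := by
      have := Nat.coprime_two_right.2 hodd
      exact_mod_cast Nat.isCoprime_iff_coprime.2 this
    exact orderOf_dvd_iff_zpow_eq_one.1 (h4.dvd_of_dvd_mul_left h3)
  have htt1 : t * t = 1 := by rw [← hi, h2]
  have ht1 : t ≠ 1 := by
    intro h
    rw [h, one_mul, inv_one, mul_one] at ht
    have h3 : x ^ 2 = 1 := by rw [pow_two, mul_eq_one_iff_eq_inv]; exact ht
    have h4 := orderOf_dvd_of_pow_eq_one h3
    rcases (Nat.dvd_prime Nat.prime_two).1 h4 with h5 | h5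
    · exact hx1 (orderOf_eq_one_iff.1 h5)
    · rw [h5] at hodd; exact absurd hodd (by decide)
  exact ⟨t, orderOf_eq_prime (by rw [pow_two, htt1]) ht1, ht, hact⟩

/-- `t` inverts `x` and acts trivially on `C(x)/⟨x⟩`. -/
structure TT (x t : G) : Prop where
  odd : Odd (orderOf x)
  two : orderOf t = 2
  inv : t * x * t⁻¹ = x⁻¹
  act : ∀ c : G, c * x = x * c → ∃ i : ℤ, t * c * t⁻¹ = c * x ^ i

namespace TT

variable {x t : G}

/-- every coset of `⟨x⟩` in `C(x)` contains an element commuting with `t` -/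
theorem exists_comm (h : TT x t) {c : G} (hc : c * x = x * c) : ∃ i : ℤ, (c * x ^ i) * t = t * (c * x ^ i) := by
  obtain ⟨i, hi⟩ := h.act c hc
  -- `j` with `2 j = i` modulo the order
  obtain ⟨m, hm⟩ := h.odd
  refine ⟨i * (m + 1), ?_⟩
  have h1 : t * (c * x ^ (i * (m + 1))) * t⁻¹ = c * x ^ (i * (m + 1)) := by
    calc t * (c * x ^ (i * (m + 1))) * t⁻¹ = (t * c * t⁻¹) * (t * x * t⁻¹) ^ (i * (m + 1)) := by
          rw [conj_zpow]; group
      _ = c * x ^ i * (x⁻¹) ^ (i * (m + 1)) := by rw [hi, h.inv]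
      _ = c * x ^ (i + -(i * (m + 1))) := by rw [inv_zpow', zpow_add, mul_assoc]
      _ = c * x ^ (i * (m + 1)) := by
          have h2 : x ^ (2 * (m : ℤ) + 1) = 1 := by
            have h3 := pow_orderOf_eq_one x
            rw [hm] at h3
            exact_mod_cast h3
          have h4 : i + -(i * ((m : ℤ) + 1)) = i * (m + 1) - (2 * m + 1) * i := by ring
          rw [h4, zpow_sub, zpow_mul x (2 * (m : ℤ) + 1) i, h2, one_zpow, inv_one, mul_one]
  calc (c * x ^ (i * (m + 1))) * t = (t * (c * x ^ (i * (m + 1))) * t⁻¹) * t := by rw [h1]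
    _ = t * (c * x ^ (i * (m + 1))) := by group

/-- powers of `x` commuting with `t` are trivial -/
theorem eq_one (h : TT x t) {i : ℤ} (hi : x ^ i * t = t * x ^ i) : x ^ i = 1 := by
  have h3 : t * (x ^ i) * t⁻¹ = (x⁻¹) ^ i := by rw [← conj_zpow, h.inv]
  have h4 : t * (x ^ i) * t⁻¹ = x ^ i := by rw [← hi]; group
  have h1 : x ^ (2 * i) = 1 := by
    rw [h3, inv_zpow] at h4
    calc x ^ (2 * i) = x ^ i * x ^ i := by rw [two_mul, zpow_add]
      _ = x ^ i * (x ^ i)⁻¹ := by rw [h4]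
      _ = 1 := mul_inv_cancel _
  have h5 : (orderOf x : ℤ) ∣ 2 * i := orderOf_dvd_iff_zpow_eq_one.2 h1
  have h6 : IsCoprime (orderOf x : ℤ) 2 := by
    have := Nat.coprime_two_right.2 h.odd
    exact_mod_cast Nat.isCoprime_iff_coprime.2 this
  exact orderOf_dvd_iff_zpow_eq_one.1 (h6.dvd_of_dvd_mul_left h5)

/-- **`C(x) ∩ C(t) ≅ C(x)/⟨x⟩`** -/
theorem exists_equiv (h : TT x t) : Nonempty (↥(centralizer ({x} : Set G) ⊓ centralizer ({t} : Set G)) ≃* XX x) := by
  let f : ↥(centralizer ({x} : Set G) ⊓ centralizer ({t} : Set G)) →* XX x :=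
    (QuotientGroup.mk' (Zx x)).comp (Subgroup.inclusion inf_le_left)
  refine ⟨MulEquiv.ofBijective f ⟨?_, ?_⟩⟩
  · rw [injective_iff_map_eq_one]
    rintro ⟨c, hc'⟩ hc
    obtain ⟨hcx, hct⟩ := Subgroup.mem_inf.1 hc'
    rw [mem_centralizer_singleton_iff] at hcx hct
    obtain ⟨i, hi⟩ := (mk_eq_one hcx).1 hc
    have h1 : x ^ i * t = t * x ^ i := by rw [hi]; exact hct
    exact Subtype.ext (hi.symm.trans (h.eq_one h1))
  · intro y
    obtain ⟨c, hc, rfl⟩ := exists_mk y
    obtain ⟨i, hi⟩ := h.exists_comm hc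
    have h1 : (c * x ^ i) * x = x * (c * x ^ i) := by
      have h2 : Commute x (x ^ i) := (Commute.refl x).zpow_right i
      have h3 : Commute x c := hc.symm
      exact (h3.mul_right h2).eq.symm
    exact ⟨⟨c * x ^ i, mem_centralizer_singleton_iff.2 h1, mem_centralizer_singleton_iff.2 hi⟩,
      ((mk_eq_mk hc h1).2 ⟨i, rfl⟩).symm⟩

end TT

/-- **Involutions of `C(x)`** are conjugate if `C(x)/⟨x⟩` has one class of involutions. -/
theorem conj_of_one {x : G} (hodd : Odd (orderOf x))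
    (hone : ∀ a b : XX x, orderOf a = 2 → orderOf b = 2 → IsConj a b) {i z : G} (hi : orderOf i = 2)
    (hz : orderOf z = 2) (hix : i * x = x * i) (hzx : z * x = x * z) : ∃ g : G, g * z * g⁻¹ = i := by
  have key : ∀ {w : G} (hw : orderOf w = 2) (hwx : w * x = x * w), orderOf (mk x hwx) = 2 := by
    intro w hw hwx
    refine orderOf_eq_prime ?_ ?_
    · have h1 : w * w = 1 := by rw [← pow_two, ← hw, pow_orderOf_eq_one]
      have h2 : (w * w) * x = x * (w * w) := by rw [h1, one_mul, mul_one]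
      rw [pow_two, mk_mul hwx hwx h2, mk_eq_one]
      exact ⟨0, by rw [zpow_zero, h1]⟩
    · intro h1
      obtain ⟨j, hj⟩ := (mk_eq_one hwx).1 h1
      have h2 : orderOf w ∣ orderOf x := by
        exact orderOf_dvd_of_mem_zpowers ⟨j, hj⟩
      rw [hw] at h2
      exact (Nat.not_even_iff_odd.2 hodd) (even_iff_two_dvd.2 h2)
  obtain ⟨k, hk⟩ := isConj_iff.1 (hone _ _ (key hz hzx) (key hi hix))
  obtain ⟨c, hc, rfl⟩ := exists_mk k
  have h1 : (c * z * c⁻¹) * x = x * (c * z * c⁻¹) := LThreeMB.conj_comm hc hzx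
  have h2 : mk x h1 = mk x hix := hk
  obtain ⟨j, hj⟩ := (mk_eq_mk h1 hix).1 h2
  -- `c z c⁻¹ x^j = i`, so `x^(2j) = 1`
  have hzz : z * z = 1 := by rw [← pow_two, ← hz, pow_orderOf_eq_one]
  have hii : i * i = 1 := by rw [← pow_two, ← hi, pow_orderOf_eq_one]
  have h3 : Commute (c * z * c⁻¹) (x ^ j) := by
    have h4 : Commute (c * z * c⁻¹) x := h1
    exact h4.zpow_right j
  have h5 : x ^ (2 * j) = 1 := by
    calc x ^ (2 * j) = (c * (z * z) * c⁻¹) * (x ^ j * x ^ j) := by rw [hzz, two_mul, zpow_add]; group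
      _ = (c * z * c⁻¹) * ((c * z * c⁻¹) * x ^ j) * x ^ j := by group
      _ = (c * z * c⁻¹) * (x ^ j * (c * z * c⁻¹)) * x ^ j := by rw [h3.eq]
      _ = ((c * z * c⁻¹) * x ^ j) * ((c * z * c⁻¹) * x ^ j) := by group
      _ = 1 := by rw [hj, hii]
  have h6 : (orderOf x : ℤ) ∣ 2 * j := orderOf_dvd_iff_zpow_eq_one.2 h5
  have h7 : IsCoprime (orderOf x : ℤ) 2 := by
    have := Nat.coprime_two_right.2 hodd
    exact_mod_cast Nat.isCoprime_iff_coprime.2 this
  have h8 : x ^ j = 1 := orderOf_dvd_iff_zpow_eq_one.1 (h7.dvd_of_dvd_mul_left h6)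
  rw [h8, mul_one] at hj
  exact ⟨c, hj⟩

/-- Sylow: if `p^k` is the exact power of `p` dividing both `|C|` and `|T|`, `T ≤ C`, elements of order `p` of `C` are
conjugate into `T`. -/
theorem conj_into {C T : Subgroup G} [Finite G] (hTC : T ≤ C) {p k : ℕ} (hp : p.Prime)
    (hC : ¬ p ^ (k + 1) ∣ Nat.card ↥C) (hT : p ^ k ∣ Nat.card ↥T) {x : G} (hx : orderOf x = p) (hxC : x ∈ C) :
    ∃ g ∈ C, g * x * g⁻¹ ∈ T := by
  have : Fact p.Prime := ⟨hp⟩
  obtain ⟨P, hP⟩ := Sylow.exists_subgroup_card_pow_prime (G := ↥T) p hT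
  -- `P` as a subgroup of `C`
  let P' : Subgroup ↥C := (P.map T.subtype).subgroupOf C
  have hPC : P.map T.subtype ≤ C := by
    rintro _ ⟨y, -, rfl⟩
    exact hTC y.2
  have hP' : Nat.card ↥P' = p ^ k := by
    rw [Nat.card_congr (Subgroup.subgroupOfEquivOfLe hPC).toEquiv,
      ← Nat.card_congr (P.equivMapOfInjective T.subtype T.subtype_injective).toEquiv, hP]
  have hfac : p ^ k = p ^ (Nat.card ↥C).factorization p := by
    have h1 : p ^ k ∣ Nat.card ↥C := by rw [← hP']; exact Subgroup.card_subgroup_dvd_card _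
    have h0 : Nat.card ↥C ≠ 0 := Nat.card_pos.ne'
    have h2 : k ≤ (Nat.card ↥C).factorization p := (hp.pow_dvd_iff_le_factorization h0).1 h1
    have h3 : ¬ k + 1 ≤ (Nat.card ↥C).factorization p := fun h => hC ((hp.pow_dvd_iff_le_factorization h0).2 h)
    have h4 : k = (Nat.card ↥C).factorization p := by omega
    rw [← h4]
  let S : Sylow p ↥C := Sylow.ofCard P' (by rw [hP', hfac])
  obtain ⟨R, hR⟩ := (IsPGroup.of_card (p := p) (n := 1) (by
    rw [pow_one, Nat.card_zpowers]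
    exact (Subgroup.orderOf_mk x hxC).trans hx) : IsPGroup p ↥(zpowers (⟨x, hxC⟩ : ↥C))).exists_le_sylow
  obtain ⟨g, hg⟩ := MulAction.exists_smul_eq ↥C R S
  refine ⟨g, g.2, ?_⟩
  have h1 : g * ⟨x, hxC⟩ * g⁻¹ ∈ (S : Subgroup ↥C) := by
    rw [← hg, Sylow.coe_subgroup_smul]
    exact Subgroup.smul_mem_pointwise_smul _ (MulAut.conj g) _ (hR (Subgroup.mem_zpowers _))
  have h2 : g * ⟨x, hxC⟩ * g⁻¹ ∈ P' := h1
  obtain ⟨y, -, hy⟩ := Subgroup.mem_subgroupOf.1 h2
  have h3 : ((g * ⟨x, hxC⟩ * g⁻¹ : ↥C) : G) = g * x * (g : G)⁻¹ := rfl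
  rw [← h3, ← hy]
  exact y.2

end Cfsg.Agent.MSevenT

end

-- merged: Cfsg.Agent.MSevenT.Main
section

/-!
# Elements of order 7 of the Monster and the Thompson group (helper72)

`G` finite simple with a chart `Q = 2^{1+24}`, `C(z)/Q = Co1`.

* `exists_TT` : there is `x₃` of order 3 in `C(z)` with `C(x₃)/⟨x₃⟩ ≅ Th` and an involution `t` inverting `x₃` and trivial
  on `C(x₃)/⟨x₃⟩`;
* `hex` : if every element of order 7 of `Th` commutes with an involution, every element of order 7 of `G` with a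
  centralizer of even order commutes with a conjugate of `z`.
-/

set_option autoImplicit false

namespace Cfsg.Agent.MSevenT

open Cfsg.Agent.LThreeMB (XX Zx mk fr fr_conj ClassOf exists_conj_to iso_th isoTh_congr exists_XX_equiv orderOf_pi)
open Cfsg Cfsg.Agent.MonsterU
open Cfsg.Agent.MonsterU.Ch
open Cfsg.Agent.MonsterU.Lam2 (L2)
open Cfsg.Spor (Co1)
open Subgroup (centralizer zpowers mem_centralizer_singleton_iff)

universe u

/-- every element of order 7 of `Th` commutes with an involution -/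
def ThSeven : Prop := ∀ x : Spor.Th, orderOf x = 7 → ∃ i : Spor.Th, orderOf i = 2 ∧ i * x = x * i

theorem fr_inv (s : Co1) : fr s⁻¹ = fr s := by
  unfold fr
  apply Nat.card_congr
  refine Equiv.subtypeEquivRight fun v => ?_
  exact inv_smul_eq_iff.trans ⟨fun h => h.symm, fun h => h.symm⟩

section chart

variable {G : Type u} [Group G] {Q : Subgroup G} {z : G} {eta : G → L2}
  {pi : Subgroup.centralizer ({z} : Set G) →* Co1}

/-- an element of order 3 over an element of order 3 -/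
theorem exists_pre (h : Chart Q z eta pi) {s : Co1} (hs : orderOf s = 3) :
    ∃ x : Subgroup.centralizer ({z} : Set G), orderOf x = 3 ∧ pi x = s := by
  obtain ⟨c, hc⟩ := h.pi_surj s
  have hs3 : s ^ 3 = 1 := by rw [← hs, pow_orderOf_eq_one]
  have h1 : ((c ^ 3 : Subgroup.centralizer ({z} : Set G)) : G) ∈ Q := by
    rw [← h.pi_eq_one, map_pow, hc, hs3]
  have hzz : z * z = 1 := by
    rcases h.large.sq z h.large.z_mem with h2 | h2
    · exact h2
    · rw [h2]
      exact (mul_eq_left.1 h2)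
  have h4 : ((c ^ 3 : Subgroup.centralizer ({z} : Set G)) : G) ^ 4 = 1 := by
    have h5 : ((c ^ 3 : Subgroup.centralizer ({z} : Set G)) : G) ^ 4 =
      (((c ^ 3 : Subgroup.centralizer ({z} : Set G)) : G) * ((c ^ 3 : Subgroup.centralizer ({z} : Set G)) : G)) *
      (((c ^ 3 : Subgroup.centralizer ({z} : Set G)) : G) * ((c ^ 3 : Subgroup.centralizer ({z} : Set G)) : G)) := by
      simp only [pow_succ, pow_zero, one_mul, mul_assoc]
    rw [h5]
    rcases h.large.sq _ h1 with h2 | h2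
    · rw [h2, one_mul]
    · rw [h2, hzz]
  have hx3 : (c ^ 4) ^ 3 = 1 := by
    rw [← pow_mul, mul_comm 4 3, pow_mul]
    exact Subtype.ext h4
  have hpx : pi (c ^ 4) = s := by rw [map_pow, hc, pow_succ, hs3, one_mul]
  have : Fact (Nat.Prime 3) := ⟨Nat.prime_three⟩
  refine ⟨c ^ 4, orderOf_eq_prime hx3 ?_, hpx⟩
  intro h5
  rw [h5, map_one] at hpx
  rw [← hpx, orderOf_one] at hs
  omega

theorem simple_th : IsSimpleGroup Spor.Th := Cfsg.Agent.Th.Main1700.isTh.1

theorem center_th (k : Spor.Th) (hk : ∀ g : Spor.Th, g * k = k * g) : k = 1 := by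
  have hs := simple_th
  have h1 : k ∈ Subgroup.center Spor.Th := Subgroup.mem_center_iff.2 hk
  rcases (inferInstance : (Subgroup.center Spor.Th).Normal).eq_bot_or_eq_top with h | h
  · rw [h, Subgroup.mem_bot] at h1
    exact h1
  · exfalso
    have h2 : Subgroup.centralizer ({Cfsg.Agent.Th.IndexUpper.gTh 1} : Set Spor.Th) = ⊤ := by
      rw [eq_top_iff]
      intro y _
      rw [mem_centralizer_singleton_iff]
      have h3 : Cfsg.Agent.Th.IndexUpper.gTh 1 ∈ Subgroup.center Spor.Th := by rw [h]; trivial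
      exact Subgroup.mem_center_iff.1 h3 y
    have h3 := Cfsg.Agent.MonsterX.ThOneClass.card_a
    rw [h2, Subgroup.card_top, Cfsg.Agent.Th.Main1700.isTh.2] at h3
    norm_num at h3

/-- **`x₃` and `t`.** -/
theorem exists_TT [Finite G] [IsSimpleGroup G] (h : Chart Q z eta pi) :
    ∃ x t : G, z * x = x * z ∧ TT x t ∧ Spor.IsoTh (XX x) := by
  obtain ⟨s, hs, hfs, ⟨e⟩, hg, hf⟩ := LThreeMB.CEight.nine
  obtain ⟨x, hx, rfl⟩ := exists_pre h hs
  have hcl : ClassOf (2 ^ 8) := LThreeCo1.Ranks.eight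
  have hth : Spor.IsoTh (XX (x : G)) := iso_th h hx hfs (by rw [hfs]; exact hcl) hf e hg
  have hx3 : x ^ 3 = 1 := by rw [← hx, pow_orderOf_eq_one]
  obtain ⟨k, hk⟩ := hcl (pi x) (pi x⁻¹) hs (by rw [map_inv, orderOf_inv, hs]) hfs (by rw [map_inv, fr_inv, hfs])
  obtain ⟨n, hn⟩ := LThreeMB.exists_conj_of_conj h hx3 (by rw [inv_pow, hx3, inv_one] : (x⁻¹) ^ 3 = 1) hk
  have hn' : (n : G) * x * (n : G)⁻¹ = (x : G)⁻¹ := congrArg Subtype.val hn
  have hox : orderOf (x : G) = 3 := by rw [Subgroup.orderOf_coe, hx]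
  obtain ⟨f⟩ := id hth
  obtain ⟨t, ht, hti, hta⟩ := exists_inv (x := (x : G)) (n := n) (by rw [hox]; decide)
    (by intro h1; rw [h1, orderOf_one] at hox; omega) hn'
    (fun α => by
      obtain ⟨k, hk⟩ := Cfsg.Agent.KFacts.Th.Main.inner ((f.symm.trans α).trans f)
      refine ⟨f.symm k, ?_⟩
      ext g
      have h1 : f (α (f.symm (f g))) = k * f g * k⁻¹ := by
        have h2 := congrArg (fun m : MulAut Spor.Th => m (f g)) hk
        exact h2
      rw [f.symm_apply_apply] at h1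
      apply f.injective
      rw [h1, MulAut.conj_apply, map_mul, map_mul, map_inv, f.apply_symm_apply])
    (fun k hk => by
      have h1 := center_th (f k) (fun g => by
        have h2 := congrArg f (hk (f.symm g))
        rw [map_mul, map_mul, f.apply_symm_apply] at h2
        exact h2)
      exact f.map_eq_one_iff.1 h1)
  have hxz : z * (x : G) = x * z := (mem_centralizer_singleton_iff.1 x.2).symm
  exact ⟨x, t, hxz, ⟨by rw [hox]; decide, ht, hti, hta⟩, hth⟩

theorem card_th : Nat.card Spor.Th = 90745943887872000 := Cfsg.Agent.Th.Main1700.isTh.2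

/-- **Elements of order 7.** -/
theorem hex [Finite G] [IsSimpleGroup G] (h : Chart Q z eta pi) {t₀ : G}
    (two : ∀ u : G, u * u = 1 → u ≠ 1 → (∃ g, g * z * g⁻¹ = u) ∨ ∃ g, g * t₀ * g⁻¹ = u)
    (h49 : ¬ 7 ^ 3 ∣ Nat.card ↥(centralizer ({t₀} : Set G))) (hTh : ThSeven) {x : G} (hx : orderOf x = 7)
    (he : 2 ∣ Nat.card ↥(centralizer ({x} : Set G))) : ∃ g : G, (g * z * g⁻¹) * x = x * (g * z * g⁻¹) := by
  obtain ⟨x₃, t, hzx, T, ⟨e⟩⟩ := exists_TT h
  obtain ⟨f⟩ := T.exists_equiv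
  -- `t ~ t₀`
  have htt : t * t = 1 := by rw [← pow_two, ← T.two, pow_orderOf_eq_one]
  have ht1 : t ≠ 1 := fun h1 => by have := T.two; rw [h1, orderOf_one] at this; omega
  have hcardT : Nat.card ↥(centralizer ({x₃} : Set G) ⊓ centralizer ({t} : Set G)) = 90745943887872000 := by
    rw [Nat.card_congr (f.trans e).toEquiv, card_th]
  have conjCent : ∀ (a g : G), Nat.card ↥(centralizer ({g * a * g⁻¹} : Set G)) = Nat.card ↥(centralizer ({a} : Set G)) := by
    intro a g
    refine Nat.card_congr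
      { toFun := fun c => ⟨g⁻¹ * c * g, mem_centralizer_singleton_iff.2 ?_⟩
        invFun := fun c => ⟨g * c * g⁻¹, mem_centralizer_singleton_iff.2 ?_⟩
        left_inv := fun c => Subtype.ext (by show g * (g⁻¹ * (c : G) * g) * g⁻¹ = c; group)
        right_inv := fun c => Subtype.ext (by show g⁻¹ * (g * (c : G) * g⁻¹) * g = c; group) }
    · have h1 := mem_centralizer_singleton_iff.1 c.2
      calc (g⁻¹ * (c : G) * g) * a = g⁻¹ * ((c : G) * (g * a * g⁻¹)) * g := by group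
        _ = g⁻¹ * ((g * a * g⁻¹) * c) * g := by rw [h1]
        _ = a * (g⁻¹ * (c : G) * g) := by group
    · have h1 := mem_centralizer_singleton_iff.1 c.2
      calc (g * (c : G) * g⁻¹) * (g * a * g⁻¹) = g * ((c : G) * a) * g⁻¹ := by group
        _ = g * (a * c) * g⁻¹ := by rw [h1]
        _ = (g * a * g⁻¹) * (g * (c : G) * g⁻¹) := by group
  have htz : ¬ ∃ g, g * z * g⁻¹ = t := by
    rintro ⟨g, hg⟩
    have h1 : Nat.card ↥(centralizer ({x₃} : Set G) ⊓ centralizer ({t} : Set G)) ∣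
        Nat.card ↥(centralizer ({t} : Set G)) := Subgroup.card_dvd_of_le inf_le_right
    rw [hcardT, ← hg, conjCent, AmalElts.card_centralizer h] at h1
    norm_num at h1
  obtain ⟨k, hk⟩ : ∃ k, k * t₀ * k⁻¹ = t := (two t htt ht1).resolve_left htz
  have h49t : ¬ 7 ^ (2 + 1) ∣ Nat.card ↥(centralizer ({t} : Set G)) := by
    rw [← hk, conjCent]
    exact h49
  -- an involution of `C(x)`
  have : Fact (Nat.Prime 2) := ⟨Nat.prime_two⟩
  obtain ⟨u, hu⟩ := exists_prime_orderOf_dvd_card' (G := ↥(centralizer ({x} : Set G))) 2 he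
  have hu2 : orderOf (u : G) = 2 := by rw [Subgroup.orderOf_coe, hu]
  have huu : (u : G) * u = 1 := by rw [← pow_two, ← hu2, pow_orderOf_eq_one]
  have hu1 : (u : G) ≠ 1 := fun h1 => by rw [h1, orderOf_one] at hu2; omega
  have hux : (u : G) * x = x * u := mem_centralizer_singleton_iff.1 u.2
  rcases two u huu hu1 with ⟨g, hg⟩ | ⟨g, hg⟩
  · exact ⟨g, by rw [hg]; exact hux⟩
  -- `u = m t m⁻¹`
  let m : G := g * k⁻¹
  have hm : m * t * m⁻¹ = u := by
    rw [← hg, ← hk]
    show (g * k⁻¹) * (k * t₀ * k⁻¹) * (g * k⁻¹)⁻¹ = _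
    group
  have hxt : m⁻¹ * x * m ∈ centralizer ({t} : Set G) := by
    rw [mem_centralizer_singleton_iff]
    calc (m⁻¹ * x * m) * t = m⁻¹ * (x * (m * t * m⁻¹)) * m := by group
      _ = m⁻¹ * ((m * t * m⁻¹) * x) * m := by rw [hm, hux]
      _ = t * (m⁻¹ * x * m) := by group
  have hx7 : orderOf (m⁻¹ * x * m) = 7 := by
    have h1 : m⁻¹ * x * m = MulAut.conj m⁻¹ x := by rw [MulAut.conj_apply, inv_inv]
    rw [h1, ← hx]
    exact orderOf_injective (MulAut.conj m⁻¹).toMonoidHom (MulAut.conj m⁻¹).injective x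
  obtain ⟨c, -, hc⟩ := conj_into (C := centralizer ({t} : Set G))
    (T := centralizer ({x₃} : Set G) ⊓ centralizer ({t} : Set G)) inf_le_right (by norm_num : Nat.Prime 7)
    h49t (by rw [hcardT]; norm_num) hx7 hxt
  -- in `Th`
  set y : G := c * (m⁻¹ * x * m) * c⁻¹ with hy
  have hy7 : orderOf y = 7 := by
    have h1 : y = MulAut.conj c (m⁻¹ * x * m) := rfl
    rw [h1, ← hx7]
    exact orderOf_injective (MulAut.conj c).toMonoidHom (MulAut.conj c).injective _
  obtain ⟨i, hi2, hiy⟩ := hTh ((f.trans e) ⟨y, hc⟩) (by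
    rw [MulEquiv.orderOf_eq]
    exact (Subgroup.orderOf_mk y hc).trans hy7)
  obtain ⟨j, rfl⟩ := (f.trans e).surjective i
  rw [MulEquiv.orderOf_eq] at hi2
  rw [← map_mul, ← map_mul] at hiy
  have hjy : (j : G) * y = y * j := congrArg Subtype.val ((f.trans e).injective hiy)
  have hj2 : orderOf (j : G) = 2 := by rw [Subgroup.orderOf_coe, hi2]
  have hjx : (j : G) * x₃ = x₃ * j := mem_centralizer_singleton_iff.1 (Subgroup.mem_inf.1 j.2).1
  have hone : ∀ a b : XX x₃, orderOf a = 2 → orderOf b = 2 → IsConj a b := by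
    intro a b ha hb
    obtain ⟨d, hd⟩ := isConj_iff.1 (Cfsg.Agent.MonsterX.ThOneClass.oneClass (e a) (e b)
      (by rw [MulEquiv.orderOf_eq, ha]) (by rw [MulEquiv.orderOf_eq, hb]))
    refine isConj_iff.2 ⟨e.symm d, e.injective ?_⟩
    rw [map_mul, map_mul, map_inv, e.apply_symm_apply, hd]
  have hz2 : orderOf z = 2 := LargeExtra.Base.orderOf_z h.large
  obtain ⟨w, hw⟩ := conj_of_one T.odd hone hj2 hz2 hjx hzx
  refine ⟨m * c⁻¹ * w, ?_⟩
  have h1 : (m * c⁻¹ * w) * z * (m * c⁻¹ * w)⁻¹ = m * c⁻¹ * j * c * m⁻¹ := by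
    rw [← hw]; group
  have h2 : x = m * c⁻¹ * y * c * m⁻¹ := by rw [hy]; group
  rw [h1, h2]
  calc m * c⁻¹ * (j : G) * c * m⁻¹ * (m * c⁻¹ * y * c * m⁻¹) = m * c⁻¹ * ((j : G) * y) * c * m⁻¹ := by group
    _ = m * c⁻¹ * (y * j) * c * m⁻¹ := by rw [hjy]
    _ = m * c⁻¹ * y * c * m⁻¹ * (m * c⁻¹ * (j : G) * c * m⁻¹) := by group

end chart

end Cfsg.Agent.MSevenT

end

-- merged: Cfsg.Agent.MSevenT.Row
section

/-!
# Elements of order 7 of the Monster whose centralizer has even order (helper72)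

The concrete model: `hex7_of`, `hex7_of'`, modulo "every element of order 7 of `Th` commutes with an involution".
-/

set_option autoImplicit false
set_option maxRecDepth 100000

namespace Cfsg.Agent.MSevenT.Row

open Cfsg Cfsg.Agent.LThree
open Cfsg.Agent.LThreeMB (fr XX KChart.Cent KChart.pi KChart.chart)
open Cfsg.Agent.MonsterX Cfsg.Agent.MonsterX.Model Cfsg.Agent.MonsterX.MainSimple Cfsg.Agent.MonsterX.MainPack
open Cfsg.Agent.MonsterX.MainBasic Cfsg.Agent.MonsterP Cfsg.Agent.MonsterN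
open Cfsg.Agent.MonsterU
open Cfsg.Spor (Co1)
open Subgroup (centralizer mem_centralizer_singleton_iff center)

/-- the involution of the base axis -/
noncomputable def t : ↥InstData.M.G := tG KDone.mGroup KDone.mRep

theorem card_cent : Nat.card ↥(centralizer ({t} : Set ↥InstData.M.G)) = 2 * Nat.card Spor.BabyMonster := by
  obtain ⟨⟨h1, -, ⟨e⟩⟩, -⟩ := ModelB.fieldsKS LitFin.all KDone.lnk KDone.lft (NodesGrp.prel LitFin.H)
    (NodesNe.ne LitFin.H) LitFin.conj_ten Cfsg.Agent.S1704.result KDone.lnk.x₀_mem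
  have h0 : t = KDone.K.ι KLinkInst.x₀ := Subtype.ext KDone.lnk.t₀_eq
  rw [h0]
  have h2 := Subgroup.card_eq_card_quotient_mul_card_subgroup
    (center ↥(centralizer ({KDone.K.ι KLinkInst.x₀} : Set ↥InstData.M.G)))
  rw [h2, h1, Nat.card_congr e.toEquiv, mul_comm]

theorem not_dvd : ¬ 7 ^ 3 ∣ Nat.card ↥(centralizer ({t} : Set ↥InstData.M.G)) := by
  have h0 : IsB Spor.BabyMonster := S1704.result
  rw [card_cent, h0.2]
  norm_num

/-- **Every element of order 7 of the Monster whose centralizer has even order commutes with a conjugate of `z`**,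
modulo the Thompson group. -/
theorem hex7_of (hTh : ThSeven) {x : ↥InstData.M.G} (hx : orderOf x = 7)
    (he : 2 ∣ Nat.card ↥(centralizer ({x} : Set ↥InstData.M.G))) :
    ∃ g : ↥InstData.M.G, (g * KDone.K.z * g⁻¹) * x = x * (g * KDone.K.z * g⁻¹) := by
  have := MFive.Row.finite_model
  have := MFive.Row.simple_model
  exact hex (KChart.chart KDone.lft MFive.Row.hc) MFive.Row.two not_dvd hTh hx he

theorem hex7_of' (hTh : ThSeven) (x : ↥InstData.M.G) (hx : orderOf x = 7)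
    (ho : ¬ Odd (Nat.card ↥(centralizer ({x} : Set ↥InstData.M.G)))) :
    ∃ g : ↥InstData.M.G, (g * KDone.K.z * g⁻¹) * x = x * (g * KDone.K.z * g⁻¹) :=
  hex7_of hTh hx (Nat.not_odd_iff_even.1 ho).two_dvd

end Cfsg.Agent.MSevenT.Row

end

-- merged: Cfsg.Agent.MSevenT.Closed
section

/-!
# Every element of order 7 of the Monster whose centralizer has even order commutes with a conjugate of `z` (helper72)

No hypotheses: `ThType.Seven` gives the Thompson group.
-/

set_option autoImplicit false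
set_option maxRecDepth 100000

namespace Cfsg.Agent.MSevenT

open Subgroup (centralizer)
open Cfsg Cfsg.Agent.MonsterX Cfsg.Agent.MonsterU

theorem thSeven : ThSeven := fun _ hx => Cfsg.Agent.ThType.Seven.exists_involution_Th Cfsg.Agent.Th.Main1700.isTh hx

/-- **`hex` for `p = 7`.** -/
theorem hex7 (x : ↥InstData.M.G) (hx : orderOf x = 7) (he : 2 ∣ Nat.card ↥(centralizer ({x} : Set ↥InstData.M.G))) :
    ∃ g : ↥InstData.M.G, (g * KDone.K.z * g⁻¹) * x = x * (g * KDone.K.z * g⁻¹) :=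
  Row.hex7_of thSeven hx he

theorem hexOdd (x : ↥InstData.M.G) (hx : orderOf x = 7)
    (ho : ¬ Odd (Nat.card ↥(centralizer ({x} : Set ↥InstData.M.G)))) :
    ∃ g : ↥InstData.M.G, (g * KDone.K.z * g⁻¹) * x = x * (g * KDone.K.z * g⁻¹) :=
  Row.hex7_of' thSeven x hx ho

end Cfsg.Agent.MSevenT

end
end

-- part: CpAutMSeven/Hex
section
set_option linter.all false

/-!
# Elements of order 7 of the Monster with a centralizer of even order (helper13)

`hex` : every such element commutes with a conjugate of `z` (the hypothesis `hev` of `MFive.Row.comps_model` and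
`hex` of `PreUniq.MonRow.noPre_of`, for `p = 7`).  This is `MSevenT.hexOdd` of helper72.
-/

set_option autoImplicit false

namespace Cfsg.Agent.CpAutMSeven.Hex

open Subgroup Cfsg Cfsg.Agent.MonsterX Cfsg.Agent.MonsterU

/-- **Every element of order 7 of the Monster with a centralizer of even order commutes with a conjugate of `z`.** -/
theorem hex {x : ↥InstData.M.G} (hx : orderOf x = 7) (hev : ¬ Odd (Nat.card ↥(centralizer ({x} : Set ↥InstData.M.G)))) :
    ∃ g : ↥InstData.M.G, (g * KDone.K.z * g⁻¹) * x = x * (g * KDone.K.z * g⁻¹) :=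
  Cfsg.Agent.MSevenT.hexOdd x hx hev

end Cfsg.Agent.CpAutMSeven.Hex
end
end
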