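import Cfsg.Agent.CoOneType.CoEval
import Cfsg.Agent.MFive.FixN
import Cfsg.Agent.CpAutBig.SevenFix
import Cfsg.Agent.CoOneType.CoAp
import Cfsg.Agent.CoOneType.CoQ
import Cfsg.Agent.CoOneType.CoW
import Cfsg.Agent.Prune
set_option linter.all false
prune_inst 0x7f00000000000000000000000000000000000000000000000000000000000000000000000000000000000000000000000000000000000000000000000000000000000000000000000000000000000000003fffffffffffffffffffffffffffbeffbdffffffff

/-- decoders of the packed data (elaboration time only) -/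
private noncomputable def pk61d (b S i : Nat) : Nat := Nat.mod (Nat.shiftRight S (Nat.mul b i)) (Nat.shiftLeft (nat_lit 1) b)
private noncomputable def pk61c {α : Type} (t : Nat) (a : α) (f : Nat → α) : α := Nat.rec a (fun k _ => f k) t
private noncomputable def pk61f {α : Type} (t : Nat) (f : Nat → α) : α := Nat.rec (f Nat.zero) (fun k _ => f (Nat.succ k)) t
private noncomputable def pk61z (t : Nat) : Int := pk61f t fun t =>
  pk61c (Nat.mod t (nat_lit 2)) (Int.ofNat (Nat.div t (nat_lit 2))) fun _ => Int.negSucc (Nat.div t (nat_lit 2))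
private noncomputable def pk61l {α : Type} (f : Nat → α) (s e : Nat) (tl : List α) : List α :=
  pk61f e fun e => Nat.rec tl (fun k ih => List.cons (pk61f (Nat.sub e (Nat.succ k)) f) ih) (Nat.sub e s)
private noncomputable def pk61o {α : Type} (O : (n : Nat) → OfNat α n → α) (I : (n : Nat) → OfNat α n) (t : Nat) : α :=
  pk61c t (O (nat_lit 0) (I (nat_lit 0))) fun k => O (Nat.succ k) (I (Nat.succ k))
private noncomputable def pk61y (O : (n : Nat) → OfNat Int n → Int) (I : (n : Nat) → OfNat Int n) (G : Int → Int) (t : Nat) : Int := pk61f t fun t =>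
  pk61c (Nat.mod t (nat_lit 2)) (pk61o O I (Nat.div t (nat_lit 2))) fun _ => G (pk61o O I (Nat.succ (Nat.div t (nat_lit 2))))


/-!
# Data for the element `r7` of `Co₀` of cycle type `1^3 7^3` (helper31)

Elements of `Co₀` (24 × 24 integer matrices divided by 8), the fixed space of `r7` in `Λ / 2Λ`.  Generated by a script; checked
by the kernel.
-/

set_option autoImplicit false
set_option maxRecDepth 100000

namespace Cfsg.Agent.CpAutMSeven.Mat

open Cfsg Cfsg.Agent.SporadicStructure.Co0Matrix Cfsg.Agent.CoOneType.CoEval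
open Cfsg.Agent.LThreeMB.Fix (addL mulL halfB latB fixB dualB fourB res)

/-- rows of `r7` -/
def rR : List (List ℤ) :=
  (by
  refine (?fq9001 : (fun (Oz : (n : Nat) → OfNat Int n → Int) (Iz : (n : Nat) → OfNat Int n) (Gz : Int → Int) => ((pk61l (fun i1 => (pk61l (fun i2 => (pk61y Oz Iz Gz (pk61d (nat_lit 5) 
    (nat_lit 0x200) (pk61d (nat_lit 1) 
    (nat_lit 0x2000000004001000000010020000400000200000080000000040000200004000008000100000040000000080000100000008010000800000000400000020000800000002000001) i2)))) (Nat.mul (nat_lit 24) i1) (Nat.mul (nat_lit 24) (Nat.succ i1)) List.nil)) (nat_lit 0) (nat_lit 24) List.nil) : List (List ℤ)))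
    = ?xq9001 → (List (List ℤ))) ?hq9001; (case hq9001 => (set_option maxRecDepth 1000000 in conv => lhs; reduce)); intro _; exact ?xq9001 (@OfNat.ofNat Int) (@instOfNat) (@Neg.neg Int Int.instNegInt) : List (List ℤ))

/-- columns of `r7` -/
def cR : List (List ℤ) := [
  [8, 0, 0, 0, 0, 0, 0, 0, 0, 0, 0, 0, 0, 0, 0, 0, 0, 0, 0, 0, 0, 0, 0, 0],
  [0, 8, 0, 0, 0, 0, 0, 0, 0, 0, 0, 0, 0, 0, 0, 0, 0, 0, 0, 0, 0, 0, 0, 0],
  [0, 0, 0, 0, 0, 0, 0, 0, 0, 0, 0, 0, 0, 0, 0, 0, 0, 0, 0, 0, 0, 0, 8, 0],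
  [0, 0, 0, 0, 0, 0, 0, 8, 0, 0, 0, 0, 0, 0, 0, 0, 0, 0, 0, 0, 0, 0, 0, 0],
  [0, 0, 0, 0, 0, 0, 0, 0, 0, 0, 0, 0, 0, 0, 0, 0, 0, 0, 0, 0, 8, 0, 0, 0],
  [0, 0, 0, 8, 0, 0, 0, 0, 0, 0, 0, 0, 0, 0, 0, 0, 0, 0, 0, 0, 0, 0, 0, 0],
  [0, 0, 0, 0, 0, 0, 0, 0, 0, 0, 0, 0, 0, 0, 0, 8, 0, 0, 0, 0, 0, 0, 0, 0],
  [0, 0, 0, 0, 0, 0, 0, 0, 0, 8, 0, 0, 0, 0, 0, 0, 0, 0, 0, 0, 0, 0, 0, 0],
  [0, 0, 0, 0, 0, 0, 0, 0, 8, 0, 0, 0, 0, 0, 0, 0, 0, 0, 0, 0, 0, 0, 0, 0],
  [0, 0, 0, 0, 0, 0, 0, 0, 0, 0, 0, 0, 0, 0, 8, 0, 0, 0, 0, 0, 0, 0, 0, 0],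
  [0, 0, 0, 0, 8, 0, 0, 0, 0, 0, 0, 0, 0, 0, 0, 0, 0, 0, 0, 0, 0, 0, 0, 0],
  [0, 0, 8, 0, 0, 0, 0, 0, 0, 0, 0, 0, 0, 0, 0, 0, 0, 0, 0, 0, 0, 0, 0, 0],
  [0, 0, 0, 0, 0, 0, 0, 0, 0, 0, 0, 0, 0, 0, 0, 0, 0, 0, 0, 0, 0, 8, 0, 0],
  [0, 0, 0, 0, 0, 0, 0, 0, 0, 0, 0, 0, 0, 0, 0, 0, 0, 0, 0, 0, 0, 0, 0, 8],
  [0, 0, 0, 0, 0, 0, 0, 0, 0, 0, 0, 0, 0, 8, 0, 0, 0, 0, 0, 0, 0, 0, 0, 0],
  [0, 0, 0, 0, 0, 0, 0, 0, 0, 0, 0, 0, 8, 0, 0, 0, 0, 0, 0, 0, 0, 0, 0, 0],
  [0, 0, 0, 0, 0, 0, 8, 0, 0, 0, 0, 0, 0, 0, 0, 0, 0, 0, 0, 0, 0, 0, 0, 0],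
  [0, 0, 0, 0, 0, 0, 0, 0, 0, 0, 0, 0, 0, 0, 0, 0, 0, 0, 0, 8, 0, 0, 0, 0],
  [0, 0, 0, 0, 0, 0, 0, 0, 0, 0, 8, 0, 0, 0, 0, 0, 0, 0, 0, 0, 0, 0, 0, 0],
  [0, 0, 0, 0, 0, 0, 0, 0, 0, 0, 0, 0, 0, 0, 0, 0, 8, 0, 0, 0, 0, 0, 0, 0],
  [0, 0, 0, 0, 0, 0, 0, 0, 0, 0, 0, 8, 0, 0, 0, 0, 0, 0, 0, 0, 0, 0, 0, 0],
  [0, 0, 0, 0, 0, 0, 0, 0, 0, 0, 0, 0, 0, 0, 0, 0, 0, 8, 0, 0, 0, 0, 0, 0],
  [0, 0, 0, 0, 0, 0, 0, 0, 0, 0, 0, 0, 0, 0, 0, 0, 0, 0, 8, 0, 0, 0, 0, 0],
  [0, 0, 0, 0, 0, 8, 0, 0, 0, 0, 0, 0, 0, 0, 0, 0, 0, 0, 0, 0, 0, 0, 0, 0]]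

/-- rows of `w`, of order 7 -/
def rW : List (List ℤ) :=
  (by
  refine (?fq9003 : (fun (Oz : (n : Nat) → OfNat Int n → Int) (Iz : (n : Nat) → OfNat Int n) (Gz : Int → Int) => ((pk61l (fun i1 => (pk61l (fun i2 => (pk61y Oz Iz Gz (pk61d (nat_lit 4) 
    (nat_lit 0x304030434343003333404003030304007080340000040430030303070000448000040340040373000000430080040430040403007080430000030340840403000007340000040330030403000800330007040440830304000007430000030440040304700000330000048340403030344344004333303003404030333434003334403003030474000000340080030340040404070000338000030430037404000000430000840330303040334443003344303003404040444444004344404003303030443433004334304003047303000000340000830440403040433334003343304003030403700000440000038430304040343333004343403003040304000800440007030330040404000000440800040447030303000000330800030337) i2))) (Nat.mul (nat_lit 24) i1) (Nat.mul (nat_lit 24) (Nat.succ i1)) List.nil)) (nat_lit 0) (nat_lit 24) List.nil) : List (List ℤ)))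
    = ?xq9003 → (List (List ℤ))) ?hq9003; (case hq9003 => (set_option maxRecDepth 1000000 in conv => lhs; reduce)); intro _; exact ?xq9003 (@OfNat.ofNat Int) (@instOfNat) (@Neg.neg Int Int.instNegInt) : List (List ℤ))

/-- columns of `w` -/
def cW : List (List ℤ) :=
  (by
  refine (?fq9004 : ((pk61l (fun i1 => (pk61l (fun i2 => (pk61z (pk61d (nat_lit 4) 
    (nat_lit 0x300008080440003430403000033444334003430004030443400000000340073437304000033344433004440003040343300700000337004430404000043333344004440003030443400000007330003440473000307000000430703440304000470070000430004430303000300000800340004440303800480080000430004430303000300007070440003430403000034443343003340003040443044334333004330004040443308000000430803440304000300000000330003330303088300800000338004430404000300000700340004440303700400000000340083438304000044434434003340003030343400000008330003440483000043433443003430004040343034343444004330004030343300000000330003330303077) i2))) (Nat.mul (nat_lit 24) i1) (Nat.mul (nat_lit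 24) (Nat.succ i1)) List.nil)) (nat_lit 0) (nat_lit 24) List.nil) : List (List ℤ))
    = ?xq9004 → (List (List ℤ))) ?hq9004; (case hq9004 => (set_option maxRecDepth 1000000 in conv => lhs; reduce)); intro _; exact ?xq9004 : List (List ℤ))

/-- rows of `h`, with `h⁻¹ r7 h = r7 ^ 3` -/
def rH : List (List ℤ) :=
  (by
  refine (?fq9005 : (fun (Oz : (n : Nat) → OfNat Int n → Int) (Iz : (n : Nat) → OfNat Int n) (Gz : Int → Int) => ((pk61l (fun i1 => (pk61l (fun i2 => (pk61y Oz Iz Gz (pk61d (nat_lit 4) 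
    (nat_lit 0xb430) (pk61d (nat_lit 2) 
    (nat_lit 0x912014a68694a21018958a54088a83002002512028a94a54088ac20020026120185986a408ca82002002088e820020020c8a820020025210146a8a64a11018aa4564088b820020029220149949a49210286546a4a12024564a649110285a89946210249a4694088a82003002522028968564611024a589a4622018664994a22024698554511014554554088a82002003) i2)))) (Nat.mul (nat_lit 24) i1) (Nat.mul (nat_lit 24) (Nat.succ i1)) List.nil)) (nat_lit 0) (nat_lit 24) List.nil) : List (List ℤ)))
    = ?xq9005 → (List (List ℤ))) ?hq9005; (case hq9005 => (set_option maxRecDepth 1000000 in conv => lhs; reduce)); intro _; exact ?xq9005 (@OfNat.ofNat Int) (@instOfNat) (@Neg.neg Int Int.instNegInt) : List (List ℤ))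

/-- columns of `h` -/
def cH : List (List ℤ) :=
  (by
  refine (?fq9006 : (fun (Oz : (n : Nat) → OfNat Int n → Int) (Iz : (n : Nat) → OfNat Int n) (Gz : Int → Int) => ((pk61l (fun i1 => (pk61l (fun i2 => (pk61y Oz Iz Gz (pk61d (nat_lit 4) 
    (nat_lit 0xb430) (pk61d (nat_lit 2) 
    (nat_lit 0xa11018aa45646120185986a4088ac2002002611024a589a4088e820020029220149949a4088b82002002088a8300200208ca820020025210146a8a646220186649940c8a82002002a21018958a549210286546a45220289685649110285a8994a12024564a64088a820030026210249a4694a22024698554912014a68694512028a94a54511014554554088a82002003) i2)))) (Nat.mul (nat_lit 24) i1) (Nat.mul (nat_lit 24) (Nat.succ i1)) List.nil)) (nat_lit 0) (nat_lit 24) List.nil) : List (List ℤ)))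
    = ?xq9006 → (List (List ℤ))) ?hq9006; (case hq9006 => (set_option maxRecDepth 1000000 in conv => lhs; reduce)); intro _; exact ?xq9006 (@OfNat.ofNat Int) (@instOfNat) (@Neg.neg Int Int.instNegInt) : List (List ℤ))

theorem okR : Ok rR cR := Ok.of_bool (by exact Cfsg.Agent.CoOneType.CoQ.ok2_of (by decide +kernel))

theorem okW : Ok rW cW := Ok.of_bool (by exact Cfsg.Agent.CoOneType.CoQ.ok2_of (by decide +kernel))

theorem okH : Ok rH cH := Ok.of_bool (by exact Cfsg.Agent.CoOneType.CoQ.ok2_of (by decide +kernel))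

/-- The letters: `r w h` and their inverses. -/
def M : ℕ → List (List ℤ)
  | 0 => rR
  | 1 => rW
  | 2 => rH
  | 3 => cR
  | 4 => cW
  | _ => cH

/-- The elements of `Co₀`. -/
def e : ℕ → Co0
  | 0 => mk okR
  | 1 => mk okW
  | 2 => mk okH
  | 3 => (mk okR)⁻¹
  | 4 => (mk okW)⁻¹
  | _ => (mk okH)⁻¹

theorem rep : ∀ i, _root_.Cfsg.Agent.CoOneType.CoEval.Rep (e i) (M i)
  | 0 => rep_mk okR
  | 1 => rep_mk okW
  | 2 => rep_mk okH
  | 3 => rep_inv okR
  | 4 => rep_inv okW
  | _ + 5 => rep_inv okH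

theorem powW : oneB M [1, 1, 1, 1, 1, 1, 1] = true := by (delta Cfsg.Agent.CoOneType.CoEval.oneB; rewrite [Cfsg.Agent.CoOneType.CoW.fold_eq]; decide +kernel)

theorem commW : oneB M [1, 0, 4, 3] = true := by (delta Cfsg.Agent.CoOneType.CoEval.oneB; rewrite [Cfsg.Agent.CoOneType.CoW.fold_eq]; decide +kernel)

theorem conjH : oneB M [5, 0, 2, 3, 3, 3] = true := by (delta Cfsg.Agent.CoOneType.CoEval.oneB; rewrite [Cfsg.Agent.CoOneType.CoW.fold_eq]; decide +kernel)

/-- a basis of the fixed space and the dual basis -/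
def vwS : List (List ℤ × List ℤ) :=
  (by
  refine (?fq9007 : (fun (Oz : (n : Nat) → OfNat Int n → Int) (Iz : (n : Nat) → OfNat Int n) (Gz : Int → Int) => ((pk61l (fun i1 => (_root_.Prod.mk (pk61l (fun i2 => (pk61y Oz Iz Gz (pk61d (nat_lit 5) 
    (nat_lit 0x180802008420c640006319060180041042108421088410844a10441104c600080200842000400000010000000b2006018063190830008320c8020004180000000000c600006318060180e7000000000000000000000000000010) i2))) (Nat.mul (nat_lit 24) i1) (Nat.mul (nat_lit 24) (Nat.succ i1)) List.nil) (pk61l (fun i2 => (pk61y Oz Iz Gz (pk61d (nat_lit 4) 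
    (nat_lit 0x303033300300080300007300000000000000000000000f030303000000330800030337033333333003330003030333303030333333003333303003111111111111111611111169) i2))) (Nat.mul (nat_lit 24) i1) (Nat.mul (nat_lit 24) (Nat.succ i1)) List.nil))) (nat_lit 0) (nat_lit 6) List.nil) : List (List ℤ × List ℤ)))
    = ?xq9007 → (List (List ℤ × List ℤ))) ?hq9007; (case hq9007 => (set_option maxRecDepth 1000000 in conv => lhs; reduce)); intro _; exact ?xq9007 (@OfNat.ofNat Int) (@instOfNat) (@Neg.neg Int Int.instNegInt) : List (List ℤ × List ℤ))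

theorem vwS_lat : latB vwS = true := by decide +kernel

theorem vwS_fix : fixB rR vwS = true := by (delta Cfsg.Agent.LThreeMB.Fix.fixB; rewrite [Cfsg.Agent.CoOneType.CoAp.ap_F]; decide +kernel)

theorem vwS_dual : dualB vwS = true := by (delta Cfsg.Agent.LThreeMB.Fix.dualB; rewrite [Cfsg.Agent.CoOneType.CoQ.dotL_F]; decide +kernel)

theorem vwS_four : fourB vwS = true := by (delta Cfsg.Agent.LThreeMB.Fix.fourB; rewrite [Cfsg.Agent.CoOneType.CoQ.dotL_F]; decide +kernel)

/-- the list with given values on the cycles of `r7` -/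
def ex (l : List ℤ) : List ℤ := CpAutBig.SevenPerm.CY7.map fun k => l.getD k 0

/-- values of short representatives of the 64 fixed classes -/
def tab6 : List (List ℤ) :=
  (by
  refine (?fq9008 : (fun (Oz : (n : Nat) → OfNat Int n → Int) (Iz : (n : Nat) → OfNat Int n) (Gz : Int → Int) => ((pk61l (fun i1 => (pk61l (fun i2 => (pk61y Oz Iz Gz (pk61d (nat_lit 4) 
    (nat_lit 0x2122291211151112a1111251a12111512111522255611169111119222225212161212191611221911221621165512259800430700430840003740003000077000087303000030333403070304070700007800007040083040073000330333003121225212119111191111161512221a122215221656112592221151112292122512122a191111161111162125551216970007080007040300730400700034700043703000304000b83007373007380033770033730308730307700000f000000) i2))) (Nat.mul (nat_lit 6) i1) (Nat.mul (nat_lit 6) (Nat.succ i1)) List.nil)) (nat_lit 0) (nat_lit 64) List.nil) : List (List ℤ)))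
    = ?xq9008 → (List (List ℤ))) ?hq9008; (case hq9008 => (set_option maxRecDepth 1000000 in conv => lhs; reduce)); intro _; exact ?xq9008 (@OfNat.ofNat Int) (@instOfNat) (@Neg.neg Int Int.instNegInt) : List (List ℤ))

/-- short representatives of the 64 fixed classes -/
def tb (m : ℕ) : List ℤ := ex (tab6.getD m [])

/-- the basis vectors -/
def lb (i : ℕ) : List ℤ := (vwS.getD i ([], [])).1

/-- combinations of the basis -/
def lc (m : ℕ) : List ℤ :=
  addL (if m.testBit 0 then lb 0 else []) (addL (if m.testBit 1 then lb 1 else []) (addL (if m.testBit 2 then lb 2 else [])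
  (addL (if m.testBit 3 then lb 3 else []) (addL (if m.testBit 4 then lb 4 else []) (if m.testBit 5 then lb 5 else [])))))

/-- the masks of the classes of type 4 -/
def fours : List ℕ := [1, 2, 3, 4, 5, 6, 7, 8, 16, 24, 32, 40, 48, 56]

/-- the masks of `w l_j` -/
def wcol : List ℕ := [2, 4, 3, 16, 32, 40]

/-- the action of `w` on the masks -/
def wm (m : ℕ) : ℕ :=
  (if m.testBit 0 then wcol.getD 0 0 else 0) ^^^ (if m.testBit 1 then wcol.getD 1 0 else 0) ^^^
  (if m.testBit 2 then wcol.getD 2 0 else 0) ^^^ (if m.testBit 3 then wcol.getD 3 0 else 0) ^^^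
  (if m.testBit 4 then wcol.getD 4 0 else 0) ^^^ (if m.testBit 5 then wcol.getD 5 0 else 0)

theorem wcol_ok : ∀ j < 6, halfB (addL (ap rW (lb j)) (lc (wcol.getD j 0))) = true := by (rewrite [Cfsg.Agent.CoOneType.CoAp.ap_F]; decide +kernel)

theorem tb_ok : ∀ m < 64, leechB (tb m) = true ∧ halfB (addL (lc m) (tb m)) = true := by
  decide +kernel

theorem tb_norm : ∀ m < 64, m ≠ 0 → m ∉ fours →
    dotL (tb m) (tb m) = 32 ∨ dotL (tb m) (tb m) = 48 := by (rewrite [Cfsg.Agent.CoOneType.CoQ.dotL_F]; decide +kernel)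

/-- the sum of a set of images under the powers of `w` -/
def comb (m s : ℕ) : ℕ :=
  (if s.testBit 0 then m else 0) ^^^ (if s.testBit 1 then wm m else 0) ^^^
  (if s.testBit 2 then wm (wm m) else 0) ^^^ (if s.testBit 3 then wm (wm (wm m)) else 0) ^^^
  (if s.testBit 4 then wm (wm (wm (wm m))) else 0) ^^^ (if s.testBit 5 then wm (wm (wm (wm (wm m)))) else 0)

theorem comb_ok : ∀ m < 64, m ≠ 0 → m ∉ fours → ∀ j < 6, ∃ s < 64, comb m s = 2 ^ j := by
  have h : ∀ m < 64, m ≠ 0 → m ∉ fours → ∀ j < 6, comb m (Nat.mod (Nat.shiftRight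
      3418432718780041285662631876423704527606810352903947907988930917685485072420568179502058650910180144288836376545521752578767522822777466281608990970665227111891900671375895244669599335138243022550345123418422910821476903577489974751131494041568808405933630433047834812158707309337822434132324370288422812199603294644362412705292332803410232128058573486657587437787556122967975183866461860719884292342096940132681337349039743335632265204293205387955419609894426205491543458679218242723473569306971299046539613435588345327382521678430536417392427932563092139943284916533928680487084707791808962142262604621512452861151269497152715580795293243142033077989487946839355249285854872771116102676643840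
      (Nat.mul 6 (Nat.add (Nat.mul 6 m) j))) 64) = 2 ^ j := by decide +kernel
  exact fun m hm h0 h4 j hj => ⟨_, Nat.mod_lt _ (by decide), h m hm h0 h4 j hj⟩

end Cfsg.Agent.CpAutMSeven.Mat
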