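import Cfsg.Agent.MFive.FixN
import Mathlib.LinearAlgebra.FreeModule.PID
import Cfsg.Agent.MFive.Fus
import Cfsg.Agent.CpAutBig.SevenFix
import Cfsg.Agent.LThreeBX.NoSeven
import Cfsg.Agent.CpAutMSeven.Mat
import Cfsg.Agent.S0398
import Cfsg.Agent.LThreeCo1.Ev
import Cfsg.Agent.CoOneType.CoQZ
import Cfsg.Agent.CoOneType.CoW
import Cfsg.Agent.FastGrp
import Cfsg.Agent.Prune
set_option linter.all false

section
prune_inst 0x7ffffffafffcbfffffff7e7fa7fdeffc1bf99fffe6fff943ffe1ebff5fff03e5abedfbaf0de490feded6e03c90b87853fb7eeeffeb6fdc7ffffdfff45ffbee5ff7ffbd0d71f7bc3e1ffc6ffffbf17fae7f3fffffffffffffffffffffffffffffffbfffffffff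

-- part: CpAutMSeven/Ranks
section
prune_inst 0x40000400000000000000200038406200000000438000204000000100004000000e0010a000020020000000308048110000000200000000000a00400000000000000080080000000000000000000000000000000000000000000000000000000000000
set_option linter.all false
open scoped Cfsg.Agent.FastGrp

-- part: CpAutMSeven/FixCard
section
/-!
# The fixed space in `Λ / 2Λ` without a check over the generators of `Λ` (helper59)

* `fr_le` : `fr (mk g) ≤ 2 ^ k` if a lattice vector fixed by `g` is determined by `k` of its coordinates;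
* `eq_sum` : a fixed class is the combination of the `v_j`, from `fr (mk g) ≤ 2 ^ k` and the dual vectors;
* `card_fix` : `fr (mk g) = 2 ^ k`.
-/

set_option autoImplicit false

namespace Cfsg.Agent.CpAutMSeven.FixCard

open Cfsg Cfsg.Agent.SporadicA Cfsg.Agent.SporadicStructure.Co0Matrix Cfsg.Agent.CoOneType.CoEval
open Cfsg.Agent.MonsterU.Lam2
open Cfsg.Agent.LThreeMB (fr)
open Cfsg.Agent.LThreeMB.Fix
open Cfsg.Agent.MFive.FixN (trH trH_apply trH_succ cl_trH)
open Cfsg.Spor (Co1)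

/-! ### Upper bound -/

/-- the fixed vectors -/
def F (g : Co0) : AddSubgroup leechLattice where
  carrier := {v | g • v = v}
  zero_mem' := (smulHom g).map_zero
  add_mem' := fun {a b} ha hb => by
    show smulHom g (a + b) = a + b
    rw [map_add]
    exact congrArg₂ (· + ·) ha hb
  neg_mem' := fun {a} ha => by
    show smulHom g (-a) = -a
    rw [map_neg]
    exact congrArg Neg.neg ha

theorem smul_trH {g : Co0} {n : ℕ} (hg : g ^ n = 1) (v : leechLattice) : g • trH g n v = trH g n v := by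
  have h2 : trH g (n + 1) v = v + trH g n (g • v) := trH_succ g n v
  have h3 : trH g (n + 1) v = trH g n v + v := by
    rw [trH_apply, Finset.sum_range_succ, hg, one_smul, ← trH_apply]
  have h4 : trH g n (g • v) = g • trH g n v := by
    rw [trH_apply, trH_apply]
    show _ = smulHom g (∑ i ∈ Finset.range n, g ^ i • v)
    rw [map_sum]
    refine Finset.sum_congr rfl fun i _ => ?_
    show g ^ i • g • v = g • g ^ i • v
    rw [← mul_smul, ← mul_smul, ← pow_succ, ← pow_succ']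
  rw [← h4]
  rw [h3, add_comm] at h2
  exact (add_left_cancel h2).symm

/-- **Upper bound for the number of fixed classes.** -/
theorem fr_le {g : Co0} {n k : ℕ} (hn : Odd n) (hg : g ^ n = 1) (r : Fin k → GolayPt)
    (hr : ∀ v : leechLattice, g • v = v → (∀ j, (v : GolayPt → ℤ) (r j) = 0) → v = 0) :
    fr (QuotientGroup.mk g : Co1) ≤ 2 ^ k := by
  classical
  -- the evaluation at the points `r j`
  let ev : ↥(F g) →+ (Fin k → ℤ) :=
    { toFun := fun v j => ((v : leechLattice) : GolayPt → ℤ) (r j)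
      map_zero' := rfl
      map_add' := fun _ _ => rfl }
  have hev : Function.Injective ev := by
    rw [injective_iff_map_eq_zero]
    intro v hv
    exact Subtype.ext (hr v v.2 fun j => congrFun hv j)
  let N : Submodule ℤ (Fin k → ℤ) := AddSubgroup.toIntSubmodule ev.range
  obtain ⟨m, ⟨b⟩⟩ := Submodule.nonempty_basis_of_pid (Pi.basisFun ℤ (Fin k)) N
  have hm : m ≤ k := by
    have h1 : Module.finrank ℤ ↥N ≤ Module.finrank ℤ (Fin k → ℤ) := Submodule.finrank_le N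
    rw [Module.finrank_eq_card_basis b, Module.finrank_fin_fun, Fintype.card_fin] at h1
    exact h1
  -- lattice representatives
  have hrep : ∀ x : {v : L2 // (QuotientGroup.mk g : Co1) • v = v}, ∃ v : ↥(F g), cl (v : leechLattice) = x := by
    rintro ⟨x, hx⟩
    have hx' : g • x = x := hx
    obtain ⟨v, rfl⟩ := cl_surjective x
    exact ⟨⟨trH g n v, smul_trH hg v⟩, cl_trH hn hx'⟩
  choose lv hlv using hrep
  let ψ : {v : L2 // (QuotientGroup.mk g : Co1) • v = v} → (Fin m → ZMod 2) := fun x i =>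
    ((b.repr ⟨ev (lv x), ⟨lv x, rfl⟩⟩ i : ℤ) : ZMod 2)
  have hψ : Function.Injective ψ := by
    intro x y hxy
    have h1 : ∀ i, (2 : ℤ) ∣ b.repr ⟨ev (lv x), ⟨lv x, rfl⟩⟩ i - b.repr ⟨ev (lv y), ⟨lv y, rfl⟩⟩ i := by
      intro i
      have h2 : ((b.repr ⟨ev (lv x), ⟨lv x, rfl⟩⟩ i : ℤ) : ZMod 2) = ((b.repr ⟨ev (lv y), ⟨lv y, rfl⟩⟩ i : ℤ) : ZMod 2) :=
        congrFun hxy i
      have h3 := (ZMod.intCast_eq_intCast_iff_dvd_sub _ _ 2).1 h2
      have h4 : (2 : ℤ) ∣ -(b.repr ⟨ev (lv y), ⟨lv y, rfl⟩⟩ i - b.repr ⟨ev (lv x), ⟨lv x, rfl⟩⟩ i) :=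
        (dvd_neg).2 h3
      rwa [neg_sub] at h4
    choose c hc using h1
    let u : ↥N := ∑ i, c i • b i
    have hu : (⟨ev (lv x), ⟨lv x, rfl⟩⟩ : ↥N) - ⟨ev (lv y), ⟨lv y, rfl⟩⟩ = (2 : ℤ) • u := by
      apply b.repr.injective
      ext i
      rw [map_sub, Finsupp.sub_apply, hc i, map_smul, Finsupp.smul_apply, smul_eq_mul, map_sum]
      congr 1
      rw [Finsupp.finsetSum_apply]
      simp only [map_smul, Finsupp.smul_apply, Module.Basis.repr_self, smul_eq_mul]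
      rw [Finset.sum_eq_single i]
      · rw [Finsupp.single_eq_same, mul_one]
      · intro j _ hj
        rw [Finsupp.single_eq_of_ne (Ne.symm hj), mul_zero]
      · intro h
        exact absurd (Finset.mem_univ i) h
    obtain ⟨w, hw⟩ : ∃ w : ↥(F g), ev w = u := u.2
    have h5 : lv x - lv y = (2 : ℤ) • w := by
      apply hev
      rw [map_sub, map_zsmul, hw]
      exact congrArg Subtype.val hu
    apply Subtype.ext
    rw [← hlv x, ← hlv y, ← sub_eq_zero, ← map_sub]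
    have h6 : ((lv x : ↥(F g)) : leechLattice) - (lv y : ↥(F g)) = (2 : ℤ) • (w : leechLattice) := congrArg Subtype.val h5
    rw [h6]
    apply cl_eq_zero.2
    exact ⟨w, by rw [two_zsmul, two_nsmul]⟩
  have h7 : fr (QuotientGroup.mk g : Co1) ≤ Nat.card (Fin m → ZMod 2) := by
    rw [fr]
    exact Nat.card_le_card_of_injective ψ hψ
  rw [Nat.card_eq_fintype_card, Fintype.card_fun, Fintype.card_fin, ZMod.card] at h7
  exact h7.trans (Nat.pow_le_pow_right (by norm_num) hm)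

/-! ### The combinations -/

variable {g : Co0} {vw : List (List ℤ × List ℤ)}

/-- the pairings with the dual vectors -/
noncomputable def pai (g : Co0) (vw : List (List ℤ × List ℤ)) (x : {v : L2 // (QuotientGroup.mk g : Co1) • v = v}) :
    Fin vw.length → ZMod 2 := fun j => bf (x : L2) (ww vw j)

theorem smul_comb (hF : ∀ j, g • vv vw j = vv vw j) (c : Fin vw.length → ZMod 2) :
    (QuotientGroup.mk g : Co1) • (∑ j : Fin vw.length, c j • vv vw j) = ∑ j : Fin vw.length, c j • vv vw j := by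
  rw [mk_smul, Finset.smul_sum]
  refine Finset.sum_congr rfl fun j _ => ?_
  have h1 : ∀ (a : ZMod 2) (y : L2), g • (a • y) = a • (g • y) := by
    intro a y
    have : a = 0 ∨ a = 1 := by revert a; decide
    rcases this with rfl | rfl
    · rw [zero_smul, zero_smul, smul_zero]
    · rw [one_smul, one_smul]
  rw [h1, hF]

theorem bf_comb (hL : latB vw = true) (hD : dualB vw = true) (c : Fin vw.length → ZMod 2) (i : Fin vw.length) :
    bf (∑ j : Fin vw.length, c j • vv vw j) (ww vw i) = c i := by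
  let φ : L2 →+ ZMod 2 :=
    { toFun := fun x => bf x (ww vw i)
      map_zero' := bf_zero_left _
      map_add' := fun x y => bf_add_left x y _ }
  show φ (∑ j : Fin vw.length, c j • vv vw j) = c i
  rw [map_sum]
  have h1 : ∀ (a : ZMod 2) (y : L2), φ (a • y) = a * φ y := by
    intro a y
    have : a = 0 ∨ a = 1 := by revert a; decide
    rcases this with rfl | rfl
    · rw [zero_smul, zero_mul, map_zero]
    · rw [one_smul, one_mul]
  simp only [h1]
  have h2 : ∀ j, φ (vv vw j) = if j = i then 1 else 0 := fun j => bf_vw hL hD j i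
  simp only [h2, mul_ite, mul_one, mul_zero, Finset.sum_ite_eq', Finset.mem_univ, if_true]

theorem pai_surjective (hL : latB vw = true) (hF : ∀ j, g • vv vw j = vv vw j) (hD : dualB vw = true) :
    Function.Surjective (pai g vw) := fun c =>
  ⟨⟨∑ j : Fin vw.length, c j • vv vw j, smul_comb hF c⟩, funext fun i => bf_comb hL hD c i⟩

theorem card_fun (k : ℕ) : Nat.card (Fin k → ZMod 2) = 2 ^ k := by
  rw [Nat.card_eq_fintype_card, Fintype.card_fun, Fintype.card_fin, ZMod.card]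

/-- **The number of fixed classes.** -/
theorem card_fix (hL : latB vw = true) (hF : ∀ j, g • vv vw j = vv vw j) (hD : dualB vw = true)
    (hc : fr (QuotientGroup.mk g : Co1) ≤ 2 ^ vw.length) : fr (QuotientGroup.mk g : Co1) = 2 ^ vw.length := by
  refine le_antisymm hc ?_
  rw [fr, ← card_fun]
  exact Nat.card_le_card_of_surjective _ (pai_surjective hL hF hD)

/-- **A fixed class is the combination of the `v_j`.** -/
theorem eq_sum (hL : latB vw = true) (hF : ∀ j, g • vv vw j = vv vw j) (hD : dualB vw = true)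
    (hc : fr (QuotientGroup.mk g : Co1) ≤ 2 ^ vw.length) {x : L2} (hx : g • x = x) :
    x = ∑ j : Fin vw.length, bf x (ww vw j) • vv vw j := by
  have hinj : Function.Injective (pai g vw) := by
    have h1 : Function.Bijective (pai g vw) := by
      rw [Nat.bijective_iff_surjective_and_card]
      exact ⟨pai_surjective hL hF hD, by rw [card_fun]; exact card_fix hL hF hD hc⟩
    exact h1.1
  have h2 : (⟨x, hx⟩ : {v : L2 // (QuotientGroup.mk g : Co1) • v = v}) =
      ⟨∑ j : Fin vw.length, bf x (ww vw j) • vv vw j, smul_comb hF _⟩ := by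
    apply hinj
    funext i
    exact (bf_comb hL hD (fun j => bf x (ww vw j)) i).symm
  exact congrArg Subtype.val h2

/-- the fixed space is generated by the `v_j` -/
theorem mem_of_fix (hL : latB vw = true) (hF : ∀ j, g • vv vw j = vv vw j) (hD : dualB vw = true)
    (hc : fr (QuotientGroup.mk g : Co1) ≤ 2 ^ vw.length) {W : AddSubgroup L2} (hW : ∀ j, vv vw j ∈ W) {x : L2}
    (hx : g • x = x) : x ∈ W := by
  rw [eq_sum hL hF hD hc hx]
  refine AddSubgroup.sum_mem W fun j _ => ?_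
  generalize bf x (ww vw j) = a
  have : a = 0 ∨ a = 1 := by revert a; decide
  rcases this with rfl | rfl
  · rw [zero_smul]; exact W.zero_mem
  · rw [one_smul]; exact hW j

end Cfsg.Agent.CpAutMSeven.FixCard
end

-- part: CpAutMSeven/Ranks
section
/-!
# Fixed ranks of the elements of order seven of `Co1` (helper59; lists generated)

* `fr_r7` : `fr (mk r7) = 2 ^ 6`;
* `cases` : `s` of order 7: `fr s = 1` or `s` is conjugate to a power of `mk r7`;
* `hranks`, `conj`, `wclass`.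
-/

set_option autoImplicit false
set_option maxRecDepth 100000

namespace Cfsg.Agent.CpAutMSeven.Ranks

open Cfsg Cfsg.Agent.SporadicA Cfsg.Agent.SporadicStructure.Co0Matrix Cfsg.Agent.CoOneType.CoEval
open Cfsg.Agent.CoOneType.SignFacts
open Cfsg.Agent.MonsterU.Lam2 Cfsg.Agent.LThreeMB.Fix
open Cfsg.Agent.MFive Cfsg.Agent.MFive.FixN
open Cfsg.Agent.CpAutBig.SevenFix (r7 r7_pow r7_ne orderOf_r7 isPerm_r7 conj_seven)
open Cfsg.Agent.CpAutBig.SevenPerm
open Cfsg.Agent.SporadicA.GolayBase (pt)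
open Cfsg.Agent.LThreeMB (fr fr_conj)
open Cfsg.Spor (Co1)

/-- rows of `r7` -/
def rA : List (List ℤ) := [
  [8, 0, 0, 0, 0, 0, 0, 0, 0, 0, 0, 0, 0, 0, 0, 0, 0, 0, 0, 0, 0, 0, 0, 0],
  [0, 8, 0, 0, 0, 0, 0, 0, 0, 0, 0, 0, 0, 0, 0, 0, 0, 0, 0, 0, 0, 0, 0, 0],
  [0, 0, 0, 0, 0, 0, 0, 0, 0, 0, 0, 8, 0, 0, 0, 0, 0, 0, 0, 0, 0, 0, 0, 0],
  [0, 0, 0, 0, 0, 8, 0, 0, 0, 0, 0, 0, 0, 0, 0, 0, 0, 0, 0, 0, 0, 0, 0, 0],
  [0, 0, 0, 0, 0, 0, 0, 0, 0, 0, 8, 0, 0, 0, 0, 0, 0, 0, 0, 0, 0, 0, 0, 0],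
  [0, 0, 0, 0, 0, 0, 0, 0, 0, 0, 0, 0, 0, 0, 0, 0, 0, 0, 0, 0, 0, 0, 0, 8],
  [0, 0, 0, 0, 0, 0, 0, 0, 0, 0, 0, 0, 0, 0, 0, 0, 8, 0, 0, 0, 0, 0, 0, 0],
  [0, 0, 0, 8, 0, 0, 0, 0, 0, 0, 0, 0, 0, 0, 0, 0, 0, 0, 0, 0, 0, 0, 0, 0],
  [0, 0, 0, 0, 0, 0, 0, 0, 8, 0, 0, 0, 0, 0, 0, 0, 0, 0, 0, 0, 0, 0, 0, 0],
  [0, 0, 0, 0, 0, 0, 0, 8, 0, 0, 0, 0, 0, 0, 0, 0, 0, 0, 0, 0, 0, 0, 0, 0],
  [0, 0, 0, 0, 0, 0, 0, 0, 0, 0, 0, 0, 0, 0, 0, 0, 0, 0, 8, 0, 0, 0, 0, 0],
  [0, 0, 0, 0, 0, 0, 0, 0, 0, 0, 0, 0, 0, 0, 0, 0, 0, 0, 0, 0, 8, 0, 0, 0],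
  [0, 0, 0, 0, 0, 0, 0, 0, 0, 0, 0, 0, 0, 0, 0, 8, 0, 0, 0, 0, 0, 0, 0, 0],
  [0, 0, 0, 0, 0, 0, 0, 0, 0, 0, 0, 0, 0, 0, 8, 0, 0, 0, 0, 0, 0, 0, 0, 0],
  [0, 0, 0, 0, 0, 0, 0, 0, 0, 8, 0, 0, 0, 0, 0, 0, 0, 0, 0, 0, 0, 0, 0, 0],
  [0, 0, 0, 0, 0, 0, 8, 0, 0, 0, 0, 0, 0, 0, 0, 0, 0, 0, 0, 0, 0, 0, 0, 0],
  [0, 0, 0, 0, 0, 0, 0, 0, 0, 0, 0, 0, 0, 0, 0, 0, 0, 0, 0, 8, 0, 0, 0, 0],
  [0, 0, 0, 0, 0, 0, 0, 0, 0, 0, 0, 0, 0, 0, 0, 0, 0, 0, 0, 0, 0, 8, 0, 0],
  [0, 0, 0, 0, 0, 0, 0, 0, 0, 0, 0, 0, 0, 0, 0, 0, 0, 0, 0, 0, 0, 0, 8, 0],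
  [0, 0, 0, 0, 0, 0, 0, 0, 0, 0, 0, 0, 0, 0, 0, 0, 0, 8, 0, 0, 0, 0, 0, 0],
  [0, 0, 0, 0, 8, 0, 0, 0, 0, 0, 0, 0, 0, 0, 0, 0, 0, 0, 0, 0, 0, 0, 0, 0],
  [0, 0, 0, 0, 0, 0, 0, 0, 0, 0, 0, 0, 8, 0, 0, 0, 0, 0, 0, 0, 0, 0, 0, 0],
  [0, 0, 8, 0, 0, 0, 0, 0, 0, 0, 0, 0, 0, 0, 0, 0, 0, 0, 0, 0, 0, 0, 0, 0],
  [0, 0, 0, 0, 0, 0, 0, 0, 0, 0, 0, 0, 0, 8, 0, 0, 0, 0, 0, 0, 0, 0, 0, 0]]

/-- fixed vectors and dual vectors -/
def vw : List (List ℤ × List ℤ) := [
  ([-4, -4, 0, 0, 0, 0, 0, 0, 0, 0, 0, 0, 0, 0, 0, 0, 0, 0, 0, 0, 0, 0, 0, 0],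
    [0, 6, 2, 4, 4, 4, 2, 4, 0, 4, 2, 2, 2, 2, 2, 2, 2, 2, 0, 4, 0, 2, 0, -4]),
  ([-4, 0, 0, 0, 0, 0, 0, 0, -4, 0, 0, 0, 0, 0, 0, 0, 0, 0, 0, 0, 0, 0, 0, 0],
    [5, 7, 3, 5, 5, 5, 3, 5, 1, 5, 3, 3, 3, 3, 3, 3, 3, 3, 1, 5, 1, 3, 1, -11]),
  ([-4, 0, 0, 0, 0, 0, 0, 0, 4, 0, 0, 0, 0, 0, 0, 0, 0, 0, 0, 0, 0, 0, 0, 0],
    [5, 7, 5, 5, 5, 5, 3, 3, 3, 3, 5, 3, 1, 3, 5, 3, 1, 3, 3, 3, 3, 1, 1, -11]),
  ([-3, -1, -1, -1, -1, -1, 1, -1, -1, -1, -1, -1, 1, -1, -1, 1, 1, 1, -1, 1, -1, 1, -1, -1],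
    [4, 0, 0, 2, 2, 2, 2, 2, 0, 2, 0, 2, 2, 0, 0, 2, 2, 0, 0, 2, 0, 2, 0, -4]),
  ([-3, -1, -1, 1, -1, 1, 1, 1, 1, 1, -1, -1, 1, 1, 1, 1, 1, 1, -1, 1, -1, 1, -1, 1],
    [0, 4, 0, 2, 2, 2, 2, 2, 0, 2, 0, 2, 2, 0, 0, 2, 2, 0, 0, 2, 0, 2, 0, -4]),
  ([-3, 1, 1, -1, 1, -1, 1, -1, -1, -1, 1, 1, 1, -1, -1, 1, 1, 1, 1, 1, 1, 1, 1, -1],
    [0, 0, 0, 2, 2, 2, 2, 2, 0, 2, 0, 2, 2, 0, 0, 2, 2, 0, 0, 2, 0, 2, 0, 0])]

/-! ### `rA` is the matrix of `r7` -/

theorem rA_eq : rA = (List.range 24).map fun i => (List.range 24).map fun j =>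
    if Nat.beq (G7.getD i 0) j then 8 else 0 := by decide +kernel

theorem G7_F7 : ∀ i < 24, G7.getD (F7.getD i 0) 0 = i := by decide +kernel

theorem getD_range {α : Type*} (f : ℕ → α) (d : α) {n i : ℕ} (h : i < n) : ((List.range n).map f).getD i d = f i := by
  rw [List.getD_eq_getElem _ _ (by simpa using h), List.getElem_map, List.getElem_range]

theorem row_rA (p q : GolayPt) : row rA (pi7 p) q = if p = q then 8 else 0 := by
  show (rA.getD (GolayBase.idx (pi7 p)) []).getD (GolayBase.idx q) 0 = _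
  have h1 := GolayBase.idx_lt (pi7 p)
  have h2 := GolayBase.idx_lt q
  have h3 : G7.getD (GolayBase.idx (pi7 p)) 0 = GolayBase.idx p := by
    rw [idx_pi7]
    exact G7_F7 _ (GolayBase.idx_lt p)
  rw [rA_eq, getD_range _ _ h1, getD_range _ _ h2, h3]
  by_cases h : p = q
  · rw [if_pos h, h, if_pos (Nat.beq_refl _)]
  · rw [if_neg h, if_neg]
    intro h4
    exact h (GolayBase.idx_injective (Nat.eq_of_beq_eq_true h4))

theorem rep : _root_.Cfsg.Agent.CoOneType.CoEval.Rep r7 rA where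
  len := by decide
  act := fun v => by
    funext p
    obtain ⟨q, rfl⟩ := pi7.surjective p
    have h1 : ((r7.1 v : leechLattice) : GolayPt → ℤ) (pi7 q) = (v : GolayPt → ℤ) q := by
      have h2 := isPerm_r7 v (pi7 q)
      rw [Equiv.symm_apply_apply] at h2
      exact h2
    rw [h1]
    show _ = dotInt (v : GolayPt → ℤ) (row rA (pi7 q)) / 8
    unfold dotInt
    rw [Finset.sum_eq_single q]
    · rw [row_rA, if_pos rfl, Int.mul_ediv_cancel _ (by norm_num)]
    · intro x _ hx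
      rw [row_rA, if_neg (Ne.symm hx), mul_zero]
    · intro h
      exact absurd (Finset.mem_univ q) h

/-! ### The fixed space -/

theorem lat : latB vw = true := by decide +kernel

theorem dual : dualB vw = true := by decide +kernel

theorem const : ∀ w ∈ vw, ∀ i < 24, w.1.getD (F7.getD i 0) 0 = w.1.getD i 0 := by decide +kernel

theorem smul_vv (j : Fin vw.length) : r7 • vv vw j = vv vw j := by
  have h1 := (lat_spec lat (List.get_mem vw j)).1
  rw [vv, smul_cl]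
  congr 1
  apply Subtype.ext
  funext p
  obtain ⟨q, rfl⟩ := pi7.surjective p
  have h2 := isPerm_r7 (el (vw.get j).1) (pi7 q)
  rw [Equiv.symm_apply_apply] at h2
  refine h2.trans ?_
  rw [el_coe h1]
  show (vw.get j).1.getD (GolayBase.idx q) 0 = (vw.get j).1.getD (GolayBase.idx (pi7 q)) 0
  rw [idx_pi7]
  exact (const _ (List.get_mem vw j) _ (GolayBase.idx_lt q)).symm

/-- a fixed vector is constant on the cycles -/
theorem apply_pow {v : leechLattice} (hv : r7 • v = v) (q : GolayPt) (e : ℕ) :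
    (v : GolayPt → ℤ) ((pi7 ^ e : Equiv.Perm GolayPt) q) = (v : GolayPt → ℤ) q := by
  induction e with
  | zero => rfl
  | succ e ih =>
    rw [pow_succ', Equiv.Perm.mul_apply, ← ih]
    have h2 := isPerm_r7 v (pi7 ((pi7 ^ e : Equiv.Perm GolayPt) q))
    rw [Equiv.symm_apply_apply, hv] at h2
    exact h2

theorem eq_zero {v : leechLattice} (hv : r7 • v = v)
    (h0 : ∀ j : Fin 6, (v : GolayPt → ℤ) (pt (REP7.getD j 0)) = 0) : v = 0 := by
  apply Subtype.ext
  funext p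
  obtain ⟨k, hk, hk24, e, -, he⟩ := REP7_iter _ (GolayBase.idx_lt p)
  have h1 : (pi7 ^ e : Equiv.Perm GolayPt) (pt (REP7.getD k 0)) = p := by
    apply GolayBase.idx_injective
    rw [show GolayBase.idx ((pi7 ^ e : Equiv.Perm GolayPt) (pt (REP7.getD k 0))) =
      (fun j => F7.getD j 0)^[e] (GolayBase.idx (pt (REP7.getD k 0))) from CpAutBig.Tab.idx_iter chk7 e _,
      GolayBase.idx_pt hk24, he]
  rw [← h1, apply_pow hv]
  exact h0 ⟨k, hk⟩

theorem fr_le : fr (QuotientGroup.mk r7 : Co1) ≤ 2 ^ 6 :=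
  FixCard.fr_le (n := 7) (by decide) r7_pow (fun j : Fin 6 => pt (REP7.getD j 0)) fun _ hv h0 => eq_zero hv h0

theorem fr_r7 : fr (QuotientGroup.mk r7 : Co1) = 2 ^ 6 :=
  FixCard.card_fix (vw := vw) lat smul_vv dual fr_le

/-- an element with a nonzero fixed vector in `Λ / 2Λ` -/
theorem exists_fixed_vec {a : Co0} {n : ℕ} (hn : Odd n) (ha : a ^ n = 1) {x : L2} (hx : a • x = x) (hx0 : x ≠ 0) :
    ∃ v : leechLattice, v ≠ 0 ∧ a • v = v := by
  obtain ⟨v, rfl⟩ := cl_surjective x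
  have h1 : cl (trH a n v) = cl v := cl_trH hn hx
  refine ⟨trH a n v, ?_, ?_⟩
  · intro h2
    rw [h2, map_zero] at h1
    exact hx0 h1.symm
  · have h2 : trH a (n + 1) v = v + trH a n (a • v) := trH_succ a n v
    have h3 : trH a (n + 1) v = trH a n v + v := by
      rw [trH_apply, Finset.sum_range_succ, ha, one_smul, ← trH_apply]
    have h4 : trH a n (a • v) = a • trH a n v := by
      rw [trH_apply, trH_apply]
      show _ = smulHom a (∑ i ∈ Finset.range n, a ^ i • v)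
      rw [map_sum]
      refine Finset.sum_congr rfl fun i _ => ?_
      show a ^ i • a • v = a • a ^ i • v
      rw [← mul_smul, ← mul_smul, ← pow_succ, ← pow_succ']
    rw [← h4]
    rw [h3, add_comm] at h2
    exact (add_left_cancel h2).symm

theorem orderOf_mk {a : Co0} {p : ℕ} [hp : Fact p.Prime] (hp2 : p ≠ 2) (ha : orderOf a = p) :
    orderOf (QuotientGroup.mk a : Co1) = p := by
  apply orderOf_eq_prime
  · rw [← QuotientGroup.mk_pow, ← ha, pow_orderOf_eq_one]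
    rfl
  · intro h1
    have h2 : orderOf a ∣ 2 := by
      rcases (CoOneType.ClosingFacts.mk_eq_one _).1 h1 with h3 | h3
      · rw [h3, orderOf_one]
        exact one_dvd _
      · rw [h3]
        apply orderOf_dvd_of_pow_eq_one
        rw [pow_two, SporadicA.Co0Mono.signCo0_mul_self]
    rw [ha] at h2
    exact hp2 ((Nat.prime_dvd_prime_iff_eq hp.out Nat.prime_two).1 h2)

/-- powers with the same fixed points -/
theorem fr_pow {s : Co1} {i : ℕ} (hs : orderOf s = 7) (hi : s ^ i ≠ 1) : fr (s ^ i) = fr s := by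
  have hcop : Nat.Coprime (orderOf s) i := by
    rw [hs]
    refine (Nat.Prime.coprime_iff_not_dvd (by norm_num)).2 fun h => hi ?_
    obtain ⟨m, rfl⟩ := h
    rw [pow_mul, ← hs, pow_orderOf_eq_one, one_pow]
  obtain ⟨m, hm⟩ := exists_pow_eq_self_of_coprime hcop.symm
  have h1 : ∀ v : L2, s ^ i • v = v ↔ s • v = v := by
    intro v
    constructor
    · intro h
      have h2 : ∀ k : ℕ, (s ^ i) ^ k • v = v := by
        intro k
        induction k with
        | zero => rw [pow_zero, one_smul]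
        | succ k ih => rw [pow_succ, mul_smul, h, ih]
      rw [← hm]
      exact h2 m
    · intro h
      have h2 : ∀ k : ℕ, s ^ k • v = v := by
        intro k
        induction k with
        | zero => rw [pow_zero, one_smul]
        | succ k ih => rw [pow_succ, mul_smul, h, ih]
      exact h2 i
  unfold fr
  exact Nat.card_congr (Equiv.subtypeEquivRight h1)

/-- **The elements of order 7 of `Co1`.** -/
theorem cases {s : Co1} (hs : orderOf s = 7) :
    fr s = 1 ∨ fr s = 2 ^ 6 ∧ ∃ (c : Co1) (i : ℕ), s = c * (QuotientGroup.mk r7 : Co1) ^ i * c⁻¹ := by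
  have : Fact (Nat.Prime 7) := ⟨by norm_num⟩
  by_cases h1 : fr s = 1
  · exact Or.inl h1
  refine Or.inr ?_
  obtain ⟨a, ha, ha7⟩ := LThreeBX.NoSeven.exists_odd (s := s) (n := 7) (by decide) (by rw [← hs, pow_orderOf_eq_one])
  have hne : a ≠ 1 := by
    rintro rfl
    rw [← ha] at hs
    have h2 : orderOf (1 : Co1) = 7 := hs
    rw [orderOf_one] at h2
    norm_num at h2
  have haO : orderOf a = 7 := orderOf_eq_prime ha7 hne
  -- a nonzero fixed vector
  obtain ⟨x, hx, hx0⟩ : ∃ x : L2, s • x = x ∧ x ≠ 0 := by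
    by_contra hcon
    push Not at hcon
    apply h1
    unfold fr
    rw [Nat.card_eq_one_iff_unique]
    refine ⟨⟨fun a b => Subtype.ext ?_⟩, ⟨⟨0, smul_zero _⟩⟩⟩
    rw [hcon a a.2, hcon b b.2]
  rw [← ha] at hx
  have hx' : a • x = x := hx
  obtain ⟨v, hv, hav⟩ := exists_fixed_vec (by decide) ha7 hx' hx0
  obtain ⟨g, hg⟩ := conj_seven haO hv hav
  obtain ⟨i, hi⟩ := (isOfFinOrder_iff_pow_eq_one.2 ⟨7, by norm_num, r7_pow⟩).mem_powers_iff_mem_zpowers.2 hg
  have hi' : r7 ^ i = g * a * g⁻¹ := hi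
  have h3 : a = g⁻¹ * r7 ^ i * (g⁻¹)⁻¹ := by
    rw [hi']; group
  have h4 : s = (QuotientGroup.mk g⁻¹ : Co1) * (QuotientGroup.mk r7 : Co1) ^ i * (QuotientGroup.mk g⁻¹ : Co1)⁻¹ := by
    rw [← ha, h3]
    rfl
  refine ⟨?_, _, i, h4⟩
  rw [h4, fr_conj, fr_pow (orderOf_mk (by norm_num) orderOf_r7), fr_r7]
  intro h5
  rw [h5, mul_one, mul_inv_cancel] at h4
  rw [h4, orderOf_one] at hs
  norm_num at hs

/-- **The fixed ranks.** -/
theorem hranks (s : Co1) (hs : orderOf s = 7) : fr s = 1 ∨ fr s = 2 ^ 6 :=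
  (cases hs).imp_right And.left

/-- **Fixed rank 6.** -/
theorem conj {s : Co1} (hs : orderOf s = 7) (hfr : fr s = 2 ^ 6) :
    ∃ (c : Co1) (i : ℕ), s = c * (QuotientGroup.mk r7 : Co1) ^ i * c⁻¹ := by
  rcases cases hs with h | h
  · rw [h] at hfr
    norm_num at hfr
  · exact h.2

end Cfsg.Agent.CpAutMSeven.Ranks
end
end

-- part: CpAutMSeven/RanksH
section
prune_inst 0x10000000000000000580210022404600019000000000e1000a000a80a4400000080004a00212902802802030004811000000021000000000080040000000002b002000100c0031000000a005180c00000000000000000000000000000004000000000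
set_option linter.all false
open scoped Cfsg.Agent.FastGrp

/-!
# The elements of order seven of `Co₁` (helper31)

* `fr_s0` : the image `s0` of `r7` in `Co₁` fixes `2^6` elements of `Λ / 2Λ`;
* `ranks` : an element of order 7 of `Co₁` fixes `1` or `2^6` elements, and is conjugate to `s0` in the second case;
* `classOf`.
-/

set_option autoImplicit false
set_option maxRecDepth 100000

namespace Cfsg.Agent.CpAutMSeven.RanksH

open Cfsg Cfsg.Agent.SporadicA Cfsg.Agent.SporadicStructure.Co0Matrix Cfsg.Agent.CoOneType.CoEval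
open Cfsg.Agent.SporadicA.GolayBase Cfsg.Agent.CpAutBig
open Cfsg.Agent.CpAutMSeven.Mat
open Cfsg.Agent.MonsterU.Lam2 (cl smulHom)

/-- the test vector -/
local notation "beta" => Cfsg.Agent.CoOneType.CoEval.beta
open Cfsg.Agent.CpAutBig.SevenFix (r7 isPerm_r7 r7_pow r7_ne orderOf_r7)
open Cfsg.Agent.CpAutBig.SevenPerm (pi7 idx_pi7 F7)
open Cfsg.Agent.LThreeMB (fr fr_conj)
open Cfsg.Agent.MonsterU.Lam2 (L2)
open Cfsg.Spor (Co1)

/-! ### `r7` as a matrix -/

theorem tab_r : ∀ i < 24, (ap rR betaL).getD (F7.getD i 0) 0 = betaL.getD i 0 := by decide +kernel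

theorem r7_eq : r7 = e 0 := by
  apply eq_of_fix
  apply Subtype.ext
  have h1 : (((e 0).1 beta : leechLattice) : GolayPt → ℤ) = vec (ap rR betaL) :=
    Rep.apply (rep 0) (l := betaL) (v := beta) (by decide) rfl
  rw [h1]
  funext p
  obtain ⟨q, rfl⟩ := pi7.surjective p
  have h2 : ((r7 • beta : leechLattice) : GolayPt → ℤ) (pi7 q) = (beta : GolayPt → ℤ) (pi7.symm (pi7 q)) :=
    isPerm_r7 _ _
  rw [Equiv.symm_apply_apply] at h2
  refine h2.trans ?_
  show betaL.getD (idx q) 0 = (ap rR betaL).getD (idx (pi7 q)) 0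
  rw [idx_pi7, tab_r _ (idx_lt q)]

theorem rep_r7 : _root_.Cfsg.Agent.CoOneType.CoEval.Rep r7 rR := by rw [r7_eq]; exact rep 0

/-- the image of `r7` in `Co₁` -/
noncomputable def s0 : Co1 := QuotientGroup.mk r7

/-- the basis vectors are fixed -/
theorem smul_vvS (j : Fin vwS.length) : r7 • LThreeMB.Fix.vv vwS j = LThreeMB.Fix.vv vwS j :=
  LThreeMB.Fix.smul_vv rep_r7 vwS_lat vwS_fix j

theorem fr_s0 : fr s0 = 2 ^ 6 :=
  FixCard.card_fix (vw := vwS) vwS_lat smul_vvS vwS_dual Ranks.fr_le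

theorem h_conj : (e 2)⁻¹ * r7 * e 2 = r7 ^ 3 := by
  have h := eq_one_of_oneB rep conjH
  have h1 : (e 2)⁻¹ * (e 0 * (e 2 * ((e 0)⁻¹ * ((e 0)⁻¹ * ((e 0)⁻¹ * 1))))) = 1 := by
    simpa only [e, _root_.mul_one, _root_.List.map_cons, _root_.List.map_nil, _root_.List.prod_cons, _root_.List.prod_nil] using h
  rw [r7_eq]
  have h2 : (e 2)⁻¹ * e 0 * e 2 * (e 0 ^ 3)⁻¹ = 1 := by
    rw [← h1]; group
  exact mul_inv_eq_one.1 h2

/-! ### Powers of `r7` -/

theorem isConj_three (j : ℕ) : IsConj r7 (r7 ^ (3 ^ j)) := by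
  induction j with
  | zero => rw [pow_zero, pow_one]
  | succ j ih =>
    refine ih.trans ?_
    rw [isConj_iff]
    refine ⟨(e 2)⁻¹, ?_⟩
    rw [inv_inv, pow_succ, mul_comm (3 ^ j) 3, pow_mul, ← h_conj]
    have h : (e 2)⁻¹ * r7 ^ 3 ^ j * e 2 = ((e 2)⁻¹ * r7 * (e 2)⁻¹⁻¹) ^ 3 ^ j := by
      rw [conj_pow, inv_inv]
    rw [h, inv_inv]

theorem isConj_pow {n : ℕ} (hn : n % 7 ≠ 0) : IsConj r7 (r7 ^ n) := by
  have h1 : ∀ m < 7, m ≠ 0 → ∃ j < 6, 3 ^ j % 7 = m := by decide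
  obtain ⟨j, -, hj⟩ := h1 (n % 7) (Nat.mod_lt _ (by norm_num)) hn
  have h2 : r7 ^ n = r7 ^ 3 ^ j := by
    rw [pow_eq_pow_iff_modEq, orderOf_r7]
    exact hj.symm
  rw [h2]
  exact isConj_three j

/-- **Elements of order 7 with a fixed vector.** -/
theorem isConj_r7 {x : Co0} (hx : orderOf x = 7) {v : leechLattice} (hv : v ≠ 0) (hxv : x • v = v) : IsConj x r7 := by
  obtain ⟨g, hg⟩ := SevenFix.conj_seven hx hv hxv
  have h1 : IsConj x (g * x * g⁻¹) := isConj_iff.2 ⟨g, rfl⟩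
  refine h1.trans ?_
  have h7 : orderOf (g * x * g⁻¹) = 7 := by
    rw [← MulAut.conj_apply, MulEquiv.orderOf_eq, hx]
  have hfin := CoZero.finite_co0
  classical
  rw [mem_zpowers_iff_mem_range_orderOf] at hg
  obtain ⟨n, -, hn⟩ := Finset.mem_image.1 hg
  rw [← hn]
  refine (isConj_pow fun h0 => ?_).symm
  rw [← hn] at h7
  obtain ⟨k, hk⟩ := Nat.dvd_of_mod_eq_zero h0
  rw [hk, pow_mul, r7_pow, one_pow, orderOf_one] at h7
  norm_num at h7

/-! ### Lifts -/

theorem card_center : Nat.card ↥(Subgroup.center Co0) = 2 := Cfsg.Agent.S0398.result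

theorem sq_of_center {c : Co0} (hc : c ∈ Subgroup.center Co0) : c ^ 2 = 1 := by
  have h := pow_card_eq_one' (x := (⟨c, hc⟩ : ↥(Subgroup.center Co0)))
  rw [card_center] at h
  exact congrArg Subtype.val h

/-- An element of order seven of `Co₁` is the image of an element of order seven of `Co₀`. -/
theorem exists_lift {s : Co1} (hs : orderOf s = 7) : ∃ g : Co0, orderOf g = 7 ∧ (QuotientGroup.mk g : Co1) = s := by
  obtain ⟨g, rfl⟩ := QuotientGroup.mk_surjective s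
  have h7 : (QuotientGroup.mk g : Co1) ^ 7 = 1 := by rw [← hs, pow_orderOf_eq_one]
  have h7' : (QuotientGroup.mk g : Co1) ^ 7 = 1 := h7
  rw [← QuotientGroup.mk_pow, QuotientGroup.eq_one_iff] at h7
  have h14 : (g ^ 7) ^ 2 = 1 := sq_of_center h7
  refine ⟨g ^ 8, ?_, ?_⟩
  · have : Fact (Nat.Prime 7) := ⟨by norm_num⟩
    refine orderOf_eq_prime ?_ ?_
    · calc (g ^ 8) ^ 7 = ((g ^ 7) ^ 2) ^ 4 := by rw [← pow_mul, ← pow_mul, ← pow_mul]
        _ = 1 := by rw [h14, one_pow]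
    · intro h6
      have h8 : (QuotientGroup.mk g : Co1) ^ 8 = 1 := by rw [← QuotientGroup.mk_pow, h6]; rfl
      have h1 : (QuotientGroup.mk g : Co1) = 1 := by rwa [pow_succ, h7', one_mul] at h8
      rw [h1, orderOf_one] at hs
      norm_num at hs
  · rw [QuotientGroup.mk_pow, pow_succ, h7', one_mul]

theorem isConj_mk {g h : Co0} (hc : IsConj g h) : IsConj (QuotientGroup.mk g : Co1) (QuotientGroup.mk h) := by
  obtain ⟨x, hx⟩ := isConj_iff.1 hc
  exact isConj_iff.2 ⟨QuotientGroup.mk x, by rw [← hx]; rfl⟩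

theorem fr_of_isConj {s t : Co1} (h : IsConj s t) : fr s = fr t := by
  obtain ⟨x, hx⟩ := isConj_iff.1 h
  rw [← hx, fr_conj]

/-- the trace is fixed -/
theorem smul_trH {g : Co0} (hg : g ^ 7 = 1) (v : leechLattice) :
    g • MFive.FixN.trH g 7 v = MFive.FixN.trH g 7 v := by
  rw [MFive.FixN.trH_apply]
  have h1 : g • (∑ i ∈ Finset.range 7, g ^ i • v) = ∑ i ∈ Finset.range 7, g ^ (i + 1) • v := by
    have h2 : g • (∑ i ∈ Finset.range 7, g ^ i • v) = ∑ i ∈ Finset.range 7, g • (g ^ i • v) :=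
      map_sum (smulHom g) _ _
    rw [h2]
    exact Finset.sum_congr rfl fun i _ => by rw [pow_succ', mul_smul]
  rw [h1]
  have h3 := Finset.sum_range_succ (fun i => g ^ i • v) 7
  have h4 := Finset.sum_range_succ' (fun i => g ^ i • v) 7
  rw [h3] at h4
  rw [hg, pow_zero] at h4
  exact (add_right_cancel h4).symm

/-- **Elements of order seven of `Co₁`.** -/
theorem main {s : Co1} (hs : orderOf s = 7) : fr s = 1 ∨ (IsConj s s0 ∧ fr s = 2 ^ 6) := by
  obtain ⟨g, hg, rfl⟩ := exists_lift hs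
  by_cases h : ∃ v : leechLattice, v ≠ 0 ∧ g • v = v
  · obtain ⟨v, hv, hgv⟩ := h
    have h1 := isConj_mk (isConj_r7 hg hv hgv)
    exact Or.inr ⟨h1, by rw [fr_of_isConj h1]; exact fr_s0⟩
  · left
    have h7 : g ^ 7 = 1 := by rw [← hg, pow_orderOf_eq_one]
    have h0 : ∀ v : L2, (QuotientGroup.mk g : Co1) • v = v → v = 0 := by
      intro v hv
      obtain ⟨u, rfl⟩ := MonsterU.Lam2.cl_surjective v
      have hv' : g • cl u = cl u := hv
      rw [← MFive.FixN.cl_trH (n := 7) (by decide) hv']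
      have h2 : MFive.FixN.trH g 7 u = 0 := by
        by_contra h3
        exact h ⟨_, h3, smul_trH h7 u⟩
      rw [h2, map_zero]
    rw [fr, Nat.card_eq_one_iff_unique]
    exact ⟨⟨fun a b => Subtype.ext ((h0 a a.2).trans (h0 b b.2).symm)⟩, ⟨0, smul_zero _⟩⟩

theorem ranks (s : Co1) (hs : orderOf s = 7) : fr s = 1 ∨ fr s = 2 ^ 6 := by
  rcases main hs with h | ⟨-, h⟩
  · exact Or.inl h
  · exact Or.inr h

theorem isConj_s0 {s : Co1} (hs : orderOf s = 7) (h : fr s = 2 ^ 6) : IsConj s s0 := by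
  rcases main hs with h1 | ⟨h1, -⟩
  · rw [h1] at h
    norm_num at h
  · exact h1

theorem classOf : MFive.ClassOf 7 (2 ^ 6) := by
  intro s t hs ht h1 h2
  exact isConj_iff.1 ((isConj_s0 hs h1).trans (isConj_s0 ht h2).symm)

theorem s0_pow : s0 ^ 7 = 1 := by
  rw [s0, ← QuotientGroup.mk_pow, r7_pow]
  rfl

theorem s0_ne : s0 ≠ 1 := by
  intro h
  have h1 := fr_s0
  rw [h] at h1
  have h2 : fr (1 : Co1) = 2 ^ 24 := by
    rw [fr, ← MonsterU.Lam2.card_L2]
    exact Nat.card_congr (Equiv.subtypeUnivEquiv fun v => one_smul _ v)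
  rw [h2] at h1
  norm_num at h1

theorem orderOf_s0 : orderOf s0 = 7 := by
  have : Fact (Nat.Prime 7) := ⟨by norm_num⟩
  exact orderOf_eq_prime s0_pow s0_ne

end Cfsg.Agent.CpAutMSeven.RanksH

private theorem dce_2bd7890baa2f : _root_.True := by
  try have : _root_.True := by simp only [_root_.Cfsg.Agent.CpAutMSeven.RanksH.s0.eq_1]
  try have : _root_.True := by simp only [_root_.Cfsg.Agent.CpAutMSeven.Mat.e.eq_1]
  try have : _root_.True := by simp only [_root_.Cfsg.Agent.CpAutMSeven.Mat.e.eq_5]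
  try have : _root_.True := by simp only [_root_.Cfsg.Agent.SporadicStructure.Co0Matrix.mk.congr_simp]
  try have : _root_.True := by simp only [_root_.Cfsg.Agent.CpAutMSeven.Mat.e.eq_3]
  try have : _root_.True := by simp only [_root_.Cfsg.Agent.CpAutMSeven.Mat.e.eq_4]
  try have : _root_.True := by simp only [_root_.Cfsg.Agent.CpAutMSeven.Mat.e.eq_6]
  try have : _root_.True := by simp only [_root_.Cfsg.Agent.CpAutMSeven.Mat.e.eq_2]
  exact _root_.True.intro
end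

-- part: CpAutMSeven/Quo
section
prune_inst 0x5000040000000000058001001e0024000090000b800181400a000b00204000000620040010100008028000000000000000000000000000000000000000000003000080180c00300000002004000000000000000000000000000000000004000000000
set_option linter.all false
open scoped Cfsg.Agent.FastGrp

-- part: CpAutMSeven/Faith
section
/-!
# The kernel of `C(s0)` on the fixed space of `s0` (helper31)

`s0` is the image of `r7` in `Co₁`; `faith` : an element of `C(s0)` acting trivially on the fixed points of `s0` in `Λ / 2Λ`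
is a power of `s0`.
-/

set_option autoImplicit false
set_option maxRecDepth 100000

open scoped Pointwise

namespace Cfsg.Agent.CpAutMSeven.Faith

open Cfsg Cfsg.Agent.SporadicA Cfsg.Agent.SporadicStructure.Co0Matrix Cfsg.Agent.CoOneType.CoEval
open Cfsg.Agent.SporadicA.GolayBase Cfsg.Agent.CpAutBig Cfsg.Agent.SporadicStructure.Co0Base
open Cfsg.Agent.CpAutMSeven.Mat Cfsg.Agent.CpAutMSeven.RanksH
open Cfsg.Agent.MonsterU.Lam2 (cl)
open Cfsg.Agent.CpAutBig.SevenFix (r7 isPerm_r7 r7_pow r7_ne orderOf_r7)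
open Cfsg.Agent.CpAutBig.SevenPerm (pi7 pi7_mem idx_pi7 pi7_fix F7 O7 W7 chk7)
open Cfsg.Agent.LThreeMB (fr fr_conj Faith)
open Cfsg.Agent.LThreeMB.Fix (el el_coe)
open Cfsg.Agent.MonsterU.Lam2 (L2)
open Cfsg.Spor (Co1)
open Cfsg.Agent.SporadicA.Co1Simple (N mem_N_iff mem_N_of_e8 e8_sub mem_crossSet_of_congr e8_inj e8_ne_neg)

/-! ### Lifting the centralizer -/

theorem comm_of_mk {A : Co0} (h : (QuotientGroup.mk A : Co1) * s0 = s0 * QuotientGroup.mk A) : A * r7 = r7 * A := by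
  have h1 : (QuotientGroup.mk (r7 * A) : Co1) = QuotientGroup.mk (A * r7) := h.symm
  rw [QuotientGroup.eq] at h1
  -- `A r7 = r7 A c`
  obtain ⟨c, hc⟩ : ∃ c, c = (r7 * A)⁻¹ * (A * r7) := ⟨_, rfl⟩
  rw [← hc] at h1
  have h2 : A * r7 = r7 * A * c := by rw [hc]; group
  have hcA := Subgroup.mem_center_iff.1 h1
  have h3 : A * r7 * A⁻¹ = r7 * c := by
    rw [h2, mul_assoc (r7 * A), ← hcA A⁻¹]; group
  have h4 : (A * r7 * A⁻¹) ^ 7 = 1 := by rw [conj_pow, r7_pow]; group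
  have h5 : c ^ 7 = 1 := by
    rw [h3, (show Commute r7 c from hcA r7).mul_pow, r7_pow, one_mul] at h4
    exact h4
  have h6 : c = 1 := by
    have h7 := sq_of_center h1
    calc c = c ^ 7 * ((c ^ 2) ^ 3)⁻¹ := by group
      _ = 1 := by rw [h5, h7]; group
  rw [h2, h6, mul_one]

/-! ### Short fixed vectors -/

/-- `4 e_0 + 4 e_1` etc. -/
def a1 : List ℤ := [4, 4, 0, 0, 0, 0, 0, 0, 0, 0, 0, 0, 0, 0, 0, 0, 0, 0, 0, 0, 0, 0, 0, 0]
@[inherit_doc a1]
def a2 : List ℤ := [4, -4, 0, 0, 0, 0, 0, 0, 0, 0, 0, 0, 0, 0, 0, 0, 0, 0, 0, 0, 0, 0, 0, 0]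
@[inherit_doc a1]
def b1 : List ℤ := [4, 0, 0, 0, 0, 0, 0, 0, 4, 0, 0, 0, 0, 0, 0, 0, 0, 0, 0, 0, 0, 0, 0, 0]
@[inherit_doc a1]
def b2 : List ℤ := [4, 0, 0, 0, 0, 0, 0, 0, -4, 0, 0, 0, 0, 0, 0, 0, 0, 0, 0, 0, 0, 0, 0, 0]

theorem lb_ok : leechB a1 = true ∧ leechB a2 = true ∧ leechB b1 = true ∧ leechB b2 = true := by decide +kernel

/-- a fixed vector of norm 32 -/
def okV (l : List ℤ) : Bool := leechB l && decide (dotL l l = 32) && decide (ap rR l = l)

theorem ok_all : okV a1 = true ∧ okV a2 = true ∧ okV b1 = true ∧ okV b2 = true := by decide +kernel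

theorem sgn {A : Co0} (hv : ∀ v : L2, s0 • v = v → (QuotientGroup.mk A : Co1) • v = v) {l : List ℤ}
    (hl : okV l = true) : A • el l = el l ∨ A • el l = -el l := by
  unfold okV at hl
  rw [Bool.and_eq_true, Bool.and_eq_true] at hl
  obtain ⟨⟨h1, h2⟩, h3⟩ := hl
  have h2 := of_decide_eq_true h2
  have h3 := of_decide_eq_true h3
  have hlen := LThreeMB.Fix.length_of_leechB h1
  have h4 : s0 • cl (el l) = cl (el l) := by
    show r7 • cl (el l) = cl (el l)
    rw [LThreeMB.Fix.smul_el rep_r7 h1 (by rw [h3]; exact h1), h3]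
  have h5 : cl (A • el l) = cl (el l) := hv _ h4
  obtain ⟨u, hu⟩ := MonsterU.Lam2.cl_eq.1 h5
  have hn : sqNorm ((el l : leechLattice) : GolayPt → ℤ) = 32 := by
    rw [el_coe h1, Cfsg.Agent.Leech.Basic.sqNorm_eq_dotInt, dotInt_vec _ _ hlen.le, h2]
  have h6 : ((A • el l : leechLattice) : GolayPt → ℤ) - (el l : leechLattice) = 2 • (u : GolayPt → ℤ) :=
    congrArg Subtype.val hu
  rcases FixCount.sqNorm_congr (el l).2 u.2 h6 (by rw [co0_sqNorm, hn]; norm_num) with h7 | h7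
  · exact Or.inl (Subtype.ext h7)
  · exact Or.inr (Subtype.ext h7)

theorem e8_pt_coe (i : ℕ) (hi : i < 24) (p : GolayPt) :
    ((e8 (pt i) : leechLattice) : GolayPt → ℤ) p = if idx p = i then 8 else 0 := by
  rw [e8_coe, Pi.single_apply]
  have h : p = pt i ↔ idx p = i := by
    constructor
    · rintro rfl; exact idx_pt hi
    · intro h; rw [← h, pt_idx]
  simp only [h]

theorem sum_a : el a1 + el a2 = e8 (pt 0) := by
  apply Subtype.ext
  funext p
  rw [AddSubgroup.coe_add, el_coe lb_ok.1, el_coe lb_ok.2.1, Pi.add_apply, e8_pt_coe 0 (by norm_num)]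
  have h : ∀ i < 24, a1.getD i 0 + a2.getD i 0 = if i = 0 then 8 else 0 := by decide
  exact h _ (idx_lt p)

theorem dif_a : el a1 - el a2 = e8 (pt 1) := by
  apply Subtype.ext
  funext p
  rw [AddSubgroup.coe_sub, el_coe lb_ok.1, el_coe lb_ok.2.1, Pi.sub_apply, e8_pt_coe 1 (by norm_num)]
  have h : ∀ i < 24, a1.getD i 0 - a2.getD i 0 = if i = 1 then 8 else 0 := by decide
  exact h _ (idx_lt p)

theorem sum_b : el b1 + el b2 = e8 (pt 0) := by
  apply Subtype.ext
  funext p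
  rw [AddSubgroup.coe_add, el_coe lb_ok.2.2.1, el_coe lb_ok.2.2.2, Pi.add_apply, e8_pt_coe 0 (by norm_num)]
  have h : ∀ i < 24, b1.getD i 0 + b2.getD i 0 = if i = 0 then 8 else 0 := by decide
  exact h _ (idx_lt p)

theorem dif_b : el b1 - el b2 = e8 (pt 8) := by
  apply Subtype.ext
  funext p
  rw [AddSubgroup.coe_sub, el_coe lb_ok.2.2.1, el_coe lb_ok.2.2.2, Pi.sub_apply, e8_pt_coe 8 (by norm_num)]
  have h : ∀ i < 24, b1.getD i 0 - b2.getD i 0 = if i = 8 then 8 else 0 := by decide +kernel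
  exact h _ (idx_lt p)

theorem smul_add' (A : Co0) (u v : leechLattice) : A • (u + v) = A • u + A • v := co0_smul_add A u v

theorem smul_sub' (A : Co0) (u v : leechLattice) : A • (u - v) = A • u - A • v :=
  map_sub (MonsterU.Lam2.smulHom A) u v

theorem pt_ne {i j : ℕ} (hi : i < 24) (hj : j < 24) (h : i ≠ j) : pt i ≠ pt j := by
  intro h1
  have h2 := congrArg idx h1
  rw [idx_pt hi, idx_pt hj] at h2
  exact h h2

/-- the three coordinate vectors are fixed up to a common sign -/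
theorem three {A : Co0} (hv : ∀ v : L2, s0 • v = v → (QuotientGroup.mk A : Co1) • v = v) :
    (∀ i, i = 0 ∨ i = 1 ∨ i = 8 → A • e8 (pt i) = e8 (pt i)) ∨
      (∀ i, i = 0 ∨ i = 1 ∨ i = 8 → A • e8 (pt i) = -e8 (pt i)) := by
  obtain ⟨h1, h2, h3, h4⟩ := ok_all
  have k1 := sgn hv h1
  have k2 := sgn hv h2
  have k3 := sgn hv h3
  have k4 := sgn hv h4
  have e0a : A • e8 (pt 0) = A • el a1 + A • el a2 := by rw [← sum_a, smul_add']
  have e1a : A • e8 (pt 1) = A • el a1 - A • el a2 := by rw [← dif_a, smul_sub']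
  have e0b : A • e8 (pt 0) = A • el b1 + A • el b2 := by rw [← sum_b, smul_add']
  have e8b : A • e8 (pt 8) = A • el b1 - A • el b2 := by rw [← dif_b, smul_sub']
  have n01 : pt 0 ≠ pt 1 := pt_ne (by norm_num) (by norm_num) (by norm_num)
  have n08 : pt 0 ≠ pt 8 := pt_ne (by norm_num) (by norm_num) (by norm_num)
  have n18 : pt 1 ≠ pt 8 := pt_ne (by norm_num) (by norm_num) (by norm_num)
  have qa : (A • e8 (pt 0) = e8 (pt 0) ∧ A • e8 (pt 1) = e8 (pt 1)) ∨
      (A • e8 (pt 0) = -e8 (pt 0) ∧ A • e8 (pt 1) = -e8 (pt 1)) ∨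
      (A • e8 (pt 0) = e8 (pt 1) ∨ A • e8 (pt 0) = -e8 (pt 1)) := by
    rcases k1 with k1 | k1 <;> rcases k2 with k2 | k2 <;> rw [k1, k2] at e0a e1a
    · exact Or.inl ⟨by rw [e0a, sum_a], by rw [e1a, dif_a]⟩
    · exact Or.inr (Or.inr (Or.inl (by rw [e0a, ← dif_a]; abel)))
    · exact Or.inr (Or.inr (Or.inr (by rw [e0a, ← dif_a]; abel)))
    · exact Or.inr (Or.inl ⟨by rw [e0a, ← sum_a]; abel, by rw [e1a, ← dif_a]; abel⟩)
  have qb : (A • e8 (pt 0) = e8 (pt 0) ∧ A • e8 (pt 8) = e8 (pt 8)) ∨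
      (A • e8 (pt 0) = -e8 (pt 0) ∧ A • e8 (pt 8) = -e8 (pt 8)) ∨
      (A • e8 (pt 0) = e8 (pt 8) ∨ A • e8 (pt 0) = -e8 (pt 8)) := by
    rcases k3 with k3 | k3 <;> rcases k4 with k4 | k4 <;> rw [k3, k4] at e0b e8b
    · exact Or.inl ⟨by rw [e0b, sum_b], by rw [e8b, dif_b]⟩
    · exact Or.inr (Or.inr (Or.inl (by rw [e0b, ← dif_b]; abel)))
    · exact Or.inr (Or.inr (Or.inr (by rw [e0b, ← dif_b]; abel)))
    · exact Or.inr (Or.inl ⟨by rw [e0b, ← sum_b]; abel, by rw [e8b, ← dif_b]; abel⟩)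
  have hne : ∀ i j : GolayPt, i ≠ j → e8 i ≠ e8 j ∧ e8 i ≠ -e8 j ∧ -e8 i ≠ e8 j ∧ -e8 i ≠ -e8 j := by
    intro i j hij
    refine ⟨fun h => hij (e8_inj h), e8_ne_neg i j, fun h => e8_ne_neg j i h.symm, fun h => hij (e8_inj (neg_injective h))⟩
  rcases qa with ⟨a0, a1'⟩ | ⟨a0, a1'⟩ | a0 <;> rcases qb with ⟨b0, b8⟩ | ⟨b0, b8⟩ | b0
  · left
    rintro i (rfl | rfl | rfl)
    · exact a0
    · exact a1'
    · exact b8
  · exact absurd (a0.symm.trans b0) (e8_ne_neg _ _)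
  · rcases b0 with b0 | b0
    · exact absurd (a0.symm.trans b0) (hne _ _ n08).1
    · exact absurd (a0.symm.trans b0) (hne _ _ n08).2.1
  · exact absurd (b0.symm.trans a0) (e8_ne_neg _ _)
  · right
    rintro i (rfl | rfl | rfl)
    · exact a0
    · exact a1'
    · exact b8
  · rcases b0 with b0 | b0
    · exact absurd (a0.symm.trans b0) (hne _ _ n08).2.2.1
    · exact absurd (a0.symm.trans b0) (hne _ _ n08).2.2.2
  · rcases a0 with a0 | a0
    · exact absurd (b0.symm.trans a0) (hne _ _ n01).1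
    · exact absurd (b0.symm.trans a0) (hne _ _ n01).2.1
  · rcases a0 with a0 | a0
    · exact absurd (b0.symm.trans a0) (hne _ _ n01).2.2.1
    · exact absurd (b0.symm.trans a0) (hne _ _ n01).2.2.2
  · rcases a0 with a0 | a0 <;> rcases b0 with b0 | b0 <;> rw [a0] at b0
    · exact absurd b0 (hne _ _ n18).1
    · exact absurd b0 (hne _ _ n18).2.1
    · exact absurd b0 (hne _ _ n18).2.2.1
    · exact absurd b0 (hne _ _ n18).2.2.2

/-! ### The monomial part -/

theorem W7_zero : ∀ w ∈ W7, w.testBit 0 = false → w.testBit 1 = false → w.testBit 8 = false → w = 0 := by decide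

theorem O7_iter : ∀ i < 24, (O7 0).testBit i = true → i = 0 ∨ ∃ e < 7, (fun j => F7.getD j 0)^[e] 6 = i := by
  decide +kernel

theorem mem_zpowers {B : Co0} (hc : B * r7 = r7 * B) (hB : ∀ i, i = 0 ∨ i = 1 ∨ i = 8 → B • e8 (pt i) = e8 (pt i)) :
    B ∈ Subgroup.zpowers r7 := by
  have hN : B ∈ N := by
    apply mem_N_of_e8
    intro j
    obtain ⟨u, hu⟩ := e8_sub j (pt 0)
    refine mem_crossSet_of_congr _ (B • u) (pt 0) ?_ ?_
    · rw [co0_sqNorm, FixCount.sqNorm_e8']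
    · rw [hu, smul_add', hB 0 (Or.inl rfl), FixCount.nsmul_smul]
  obtain ⟨σ, hσ, c, hcc, hA⟩ := Cfsg.Agent.SporadicStructure.StdCross.exists_signedPerm B ((mem_N_iff _).1 hN)
  obtain ⟨hσc, hinv⟩ := FixCount.comm_data pi7 isPerm_r7 hc hA
  have h1 : ∀ i, i = 0 ∨ i = 1 ∨ i = 8 → σ (pt i) = pt i ∧ pt i ∉ c := by
    intro i hi
    have h2 := congrArg (fun v : leechLattice => (v : GolayPt → ℤ) (pt i)) (hB i hi)
    simp only [hA, signedPerm_apply, e8_coe, Pi.single_apply, if_true] at h2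
    by_cases h3 : pt i ∈ c
    · rw [if_pos h3] at h2
      split_ifs at h2 <;> norm_num at h2
    · rw [if_neg h3] at h2
      split_ifs at h2 with h4
      · exact ⟨by conv_lhs => rw [← h4, Equiv.apply_symm_apply], h3⟩
      · norm_num at h2
  have hc0 : c = ∅ := by
    have h2 := Tab.mem_words chk7 SevenPerm.W7_check hcc hinv
    have h3 : ∀ i, i < 24 → i = 0 ∨ i = 1 ∨ i = 8 → (maskOf c).testBit i = false := by
      intro i hi hi'
      have h4 := (h1 i hi').2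
      rw [← fin_maskOf c, mem_fin, idx_pt hi, Bool.not_eq_true] at h4
      exact h4
    have h4 := W7_zero _ h2 (h3 0 (by norm_num) (Or.inl rfl)) (h3 1 (by norm_num) (Or.inr (Or.inl rfl)))
      (h3 8 (by norm_num) (Or.inr (Or.inr rfl)))
    rw [← fin_maskOf c, h4]
    ext p
    rw [mem_fin]
    simp
  -- the image of the point 6
  have h6 : ∃ k : ℕ, σ (pt 6) = (pi7 ^ k : Equiv.Perm GolayPt) (pt 6) := by
    have h2 := SevenPerm.smul_O7 hσ hσc (pi7_fix (i := 0) (Or.inl rfl))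
    rw [(h1 0 (Or.inl rfl)).1, idx_pt (by norm_num)] at h2
    have h3 : σ (pt 6) ∈ fin (O7 0) := by
      rw [← h2]
      apply Finset.smul_mem_smul_finset
      rw [mem_fin, idx_pt (by norm_num)]
      decide +kernel
    rw [mem_fin] at h3
    rcases O7_iter _ (idx_lt _) h3 with h4 | ⟨k, -, hk⟩
    · exfalso
      have h5 : σ (pt 6) = σ (pt 0) := by
        apply idx_injective
        rw [h4, (h1 0 (Or.inl rfl)).1, idx_pt (by norm_num)]
      exact pt_ne (by norm_num) (by norm_num) (by norm_num) (σ.injective h5)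
    · refine ⟨k, ?_⟩
      apply idx_injective
      rw [show idx ((pi7 ^ k : Equiv.Perm GolayPt) (pt 6)) = (fun j => F7.getD j 0)^[k] (idx (pt 6)) from
            Tab.idx_iter chk7 k _, idx_pt (by norm_num), hk]
  obtain ⟨k, hk⟩ := h6
  have hfixk : ∀ i, i = 0 ∨ i = 1 ∨ i = 8 → (pi7 ^ k : Equiv.Perm GolayPt) (pt i) = pt i := by
    intro i hi
    have h2 := pi7_fix hi
    clear hk
    induction k with
    | zero => rfl
    | succ k ih => rw [pow_succ, Equiv.Perm.mul_apply, h2, ih]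
  have hσk : σ = pi7 ^ k := by
    refine SevenPerm.triple_inj hσ hσc (M24.pow_mem pi7_mem k) ((Commute.refl pi7).pow_left k) ?_ ?_ hk
    · rw [(h1 0 (Or.inl rfl)).1, hfixk 0 (Or.inl rfl)]
    · rw [(h1 1 (Or.inr (Or.inl rfl))).1, hfixk 1 (Or.inr (Or.inl rfl))]
  refine ⟨(k : ℤ), ?_⟩
  show r7 ^ (k : ℤ) = B
  rw [zpow_natCast]
  apply co0_ext
  intro v
  apply Subtype.ext
  rw [hA, hc0, hσk]
  funext p
  rw [signedPerm_apply, if_neg (Finset.notMem_empty p)]
  have h2 : r7 ^ k = Co0Mono.permCo0 ((⟨pi7, pi7_mem⟩ : M24) ^ k) := by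
    unfold r7
    rw [map_pow]
  rw [h2, Co0Mono.permCo0_smul, Co0Mono.permMap_apply]
  rfl

/-- **The kernel on the fixed points.** -/
theorem faith : Faith s0 := by
  intro g hg hv
  obtain ⟨A, rfl⟩ := QuotientGroup.mk_surjective g
  have hA := comm_of_mk hg
  rcases three hv with h | h
  · obtain ⟨i, hi⟩ := mem_zpowers hA h
    refine ⟨i, ?_⟩
    have hi' : r7 ^ i = A := hi
    rw [← hi']
    rfl
  · have hneg := Subgroup.mem_center_iff.1 Co0Basic.negCo0_mem_center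
    have h1 : (Co0Basic.negCo0 * A) * r7 = r7 * (Co0Basic.negCo0 * A) := by
      rw [mul_assoc, hA, ← mul_assoc, ← hneg r7, mul_assoc]
    obtain ⟨i, hi⟩ := mem_zpowers h1 (fun j hj => by
      rw [mul_smul, h j hj]
      show -(-e8 (pt j)) = e8 (pt j)
      rw [neg_neg])
    refine ⟨i, ?_⟩
    have hi' : r7 ^ i = Co0Basic.negCo0 * A := hi
    have h2 : (QuotientGroup.mk A : Co1) = QuotientGroup.mk (Co0Basic.negCo0 * A) := by
      rw [QuotientGroup.mk_mul, show (QuotientGroup.mk Co0Basic.negCo0 : Co1) = 1 from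
        (QuotientGroup.eq_one_iff _).2 Co0Basic.negCo0_mem_center, one_mul]
    rw [h2, ← hi']
    rfl

end Cfsg.Agent.CpAutMSeven.Faith
end

-- part: CpAutMSeven/Quo
section
/-!
# The group `C(s0) / ⟨s0⟩` (helper31)

* `card_le` : its order is at most 336; `seven_dvd`;
* `two_core` : it has no nontrivial normal 2-subgroup.
-/

set_option autoImplicit false
set_option maxRecDepth 100000

namespace Cfsg.Agent.CpAutMSeven.Quo

open Cfsg Cfsg.Agent.SporadicA Cfsg.Agent.SporadicStructure.Co0Matrix Cfsg.Agent.CoOneType.CoEval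
open Cfsg.Agent.CpAutBig Cfsg.Agent.SporadicStructure.Co0Base
open Cfsg.Agent.CpAutMSeven.Mat Cfsg.Agent.CpAutMSeven.RanksH Cfsg.Agent.CpAutMSeven.Faith
open Cfsg.Agent.MonsterU.Lam2 (cl bf IsType)
open Cfsg.Agent.CpAutBig.SevenFix (r7 isPerm_r7 r7_pow r7_ne orderOf_r7)
open Cfsg.Agent.LThreeMB (fr XX Zx Zx_le_center Faith)
open Cfsg.Agent.LThreeMB.Fix (el el_coe halfB half_spec addL vec_addL vv ww lat_spec smul_vv bf_vw)
open Cfsg.Agent.MonsterU.Lam2 (L2)
open Cfsg.Spor (Co1)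
open Subgroup (centralizer mem_centralizer_singleton_iff)

/-! ### The order -/

/-- `C(r7) → C(s0)` -/
noncomputable def toC : ↥(centralizer ({r7} : Set Co0)) →* ↥(centralizer ({s0} : Set Co1)) where
  toFun g := ⟨QuotientGroup.mk g.1, mem_centralizer_singleton_iff.2 (by
    have h := mem_centralizer_singleton_iff.1 g.2
    show (QuotientGroup.mk (g.1 * r7) : Co1) = QuotientGroup.mk (r7 * g.1)
    rw [h])⟩
  map_one' := rfl
  map_mul' _ _ := rfl

theorem toC_surjective : Function.Surjective toC := by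
  rintro ⟨s, hs⟩
  obtain ⟨A, rfl⟩ := QuotientGroup.mk_surjective s
  exact ⟨⟨A, mem_centralizer_singleton_iff.2 (comm_of_mk (mem_centralizer_singleton_iff.1 hs))⟩, rfl⟩

theorem finite_co1 : Finite Co1 := Finite.of_surjective (QuotientGroup.mk : Co0 → Co1) (by
  have := CoZero.finite_co0
  exact QuotientGroup.mk_surjective)

theorem two_le_ker : 2 ≤ Nat.card toC.ker := by
  have hfin := CoZero.finite_co0
  have hmem : Co0Basic.negCo0 ∈ centralizer ({r7} : Set Co0) :=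
    mem_centralizer_singleton_iff.2 (Subgroup.mem_center_iff.1 Co0Basic.negCo0_mem_center r7).symm
  have hk : (⟨Co0Basic.negCo0, hmem⟩ : ↥(centralizer ({r7} : Set Co0))) ∈ toC.ker := by
    rw [MonoidHom.mem_ker]
    exact Subtype.ext ((QuotientGroup.eq_one_iff _).2 Co0Basic.negCo0_mem_center)
  have hne : (⟨⟨Co0Basic.negCo0, hmem⟩, hk⟩ : ↥toC.ker) ≠ 1 := by
    intro h
    exact Co0Basic.negCo0_ne_one (congrArg (fun x : ↥toC.ker => ((x : ↥(centralizer ({r7} : Set Co0))) : Co0)) h)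
  have : Nontrivial ↥toC.ker := ⟨⟨_, _, hne⟩⟩
  have h1 : 1 < Nat.card ↥toC.ker := Finite.one_lt_card
  omega

theorem card_cent_mul {n : ℕ} (hn : Nat.card ↥(centralizer ({r7} : Set Co0)) ≤ n) :
    Nat.card ↥(centralizer ({s0} : Set Co1)) * 2 ≤ n := by
  have hfin := CoZero.finite_co0
  have h1 := toC.ker.card_eq_card_quotient_mul_card_subgroup
  have h2 : Nat.card (↥(centralizer ({r7} : Set Co0)) ⧸ toC.ker) = Nat.card ↥(centralizer ({s0} : Set Co1)) :=
    Nat.card_congr (QuotientGroup.quotientKerEquivOfSurjective toC toC_surjective).toEquiv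
  rw [h2] at h1
  have h3 := Nat.mul_le_mul_left (Nat.card ↥(centralizer ({s0} : Set Co1))) two_le_ker
  rw [← h1] at h3
  exact h3.trans hn

theorem card_Zx : Nat.card ↥(Zx s0) = 7 := by
  rw [Zx, Nat.card_zpowers, ← orderOf_s0]
  exact Subgroup.orderOf_mk s0 _

theorem finite_XX : Finite (XX s0) := by
  have := finite_co1
  exact Quotient.finite _

theorem card_mul : Nat.card (XX s0) * 7 = Nat.card ↥(centralizer ({s0} : Set Co1)) := by
  have hq := Subgroup.card_eq_card_quotient_mul_card_subgroup (Zx s0)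
  rw [card_Zx] at hq
  exact hq.symm

theorem card_le_of {n : ℕ} (hn : Nat.card ↥(centralizer ({r7} : Set Co0)) ≤ n) : Nat.card (XX s0) * 14 ≤ n := by
  have h1 := card_cent_mul hn
  rw [← card_mul] at h1
  omega

theorem card_le : Nat.card (XX s0) ≤ 336 := by
  have h1 := card_le_of SevenFix.card_le_r7
  omega

theorem not_seventeen : ¬ 17 ∣ Nat.card (XX s0) := by
  intro h
  have h1 : 17 ∣ Nat.card Co0 := by
    refine h.trans ?_
    have h2 : Nat.card (XX s0) ∣ Nat.card ↥(centralizer ({s0} : Set Co1)) := ⟨7, card_mul.symm⟩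
    refine (h2.trans (Subgroup.card_subgroup_dvd_card _)).trans ?_
    exact Subgroup.card_quotient_dvd_card _
  rw [S0397.result] at h1
  norm_num at h1

/-! ### The element `w` -/

/-- `w` of order 7 in `Co₀` -/
noncomputable def w0 : Co0 := e 1

theorem rep_w0 : _root_.Cfsg.Agent.CoOneType.CoEval.Rep w0 rW := rep 1

theorem w0_pow : w0 ^ 7 = 1 := by
  have h := eq_one_of_oneB rep powW
  have h1 : e 1 * (e 1 * (e 1 * (e 1 * (e 1 * (e 1 * (e 1 * 1)))))) = 1 := by simpa only [_root_.mul_one, _root_.List.map_cons, _root_.List.map_nil, _root_.List.prod_cons, _root_.List.prod_nil] using h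
  rw [w0, ← h1]
  simp only [pow_succ, pow_zero, mul_assoc, one_mul, mul_one]

theorem w0_comm : w0 * r7 = r7 * w0 := by
  have h := eq_one_of_oneB rep commW
  have h1 : e 1 * (e 0 * ((e 1)⁻¹ * ((e 0)⁻¹ * 1))) = 1 := by simpa only [e, _root_.mul_one, _root_.List.map_cons, _root_.List.map_nil, _root_.List.prod_cons, _root_.List.prod_nil] using h
  rw [r7_eq, w0]
  have h2 : e 1 * e 0 * (e 0 * e 1)⁻¹ = 1 := by rw [← h1]; group
  exact mul_inv_eq_one.1 h2

/-- its image in `Co₁` -/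
noncomputable def w1 : Co1 := QuotientGroup.mk w0

theorem w1_comm : w1 * s0 = s0 * w1 := by
  show (QuotientGroup.mk (w0 * r7) : Co1) = QuotientGroup.mk (r7 * w0)
  rw [w0_comm]

/-! ### The fixed space -/

/-- the basis -/
noncomputable def vb (j : ℕ) : L2 := cl (el (lb j))

/-- the dual basis -/
noncomputable def wb (j : ℕ) : L2 := cl (el (vwS.getD j ([], [])).2)

theorem vb_eq (j : Fin vwS.length) : vb j = vv vwS j := by
  show cl (el (vwS.getD j ([], [])).1) = cl (el (vwS.get j).1)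
  congr 3
  exact List.getD_eq_getElem _ _ j.2

theorem wb_eq (j : Fin vwS.length) : wb j = ww vwS j := by
  show cl (el (vwS.getD j ([], [])).2) = cl (el (vwS.get j).2)
  congr 3
  exact List.getD_eq_getElem _ _ j.2

theorem bf_vb {i j : ℕ} (hi : i < 6) (hj : j < 6) : bf (vb i) (wb j) = if i = j then 1 else 0 := by
  have hi' : i < vwS.length := hi
  have hj' : j < vwS.length := hj
  have h := bf_vw vwS_lat vwS_dual ⟨i, hi'⟩ ⟨j, hj'⟩
  rw [← vb_eq, ← wb_eq] at h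
  rw [h]
  by_cases hij : i = j
  · rw [if_pos hij, if_pos (Fin.ext hij)]
  · rw [if_neg hij, if_neg fun h => hij (congrArg Fin.val h)]

theorem smul_vb {j : ℕ} (hj : j < 6) : s0 • vb j = vb j := by
  have h := smul_vv rep_r7 vwS_lat vwS_fix (⟨j, hj⟩ : Fin vwS.length)
  rw [← vb_eq] at h
  exact h

theorem lb_leech {j : ℕ} (hj : j < 6) : leechB (lb j) = true := by
  have h := (lat_spec vwS_lat (List.get_mem vwS (⟨j, hj⟩ : Fin vwS.length))).1
  have h2 : lb j = (vwS.get (⟨j, hj⟩ : Fin vwS.length)).1 := by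
    show (vwS.getD j ([], [])).1 = _
    congr 1
    exact List.getD_eq_getElem _ _ hj
  rw [h2]
  exact h

/-- the vectors generate the fixed space -/
theorem mem_of_fixed {W : AddSubgroup L2} (hW : ∀ j < 6, vb j ∈ W) {x : L2} (hx : s0 • x = x) : x ∈ W := by
  refine FixCard.mem_of_fix (vw := vwS) vwS_lat smul_vvS vwS_dual Ranks.fr_le (fun j => ?_) (x := x) hx
  have h := hW j j.2
  have h2 := vb_eq j
  rw [h2] at h
  exact h

/-- combinations of the basis in the lattice -/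
noncomputable def lcv (m : ℕ) : leechLattice :=
  (if m.testBit 0 then el (lb 0) else 0) + ((if m.testBit 1 then el (lb 1) else 0) + ((if m.testBit 2 then el (lb 2) else 0) +
  ((if m.testBit 3 then el (lb 3) else 0) + ((if m.testBit 4 then el (lb 4) else 0) + (if m.testBit 5 then el (lb 5) else 0)))))

theorem vec_nil : vec [] = 0 := by
  funext p
  show ([] : List ℤ).getD _ 0 = 0
  simp

theorem if_coe {b : Bool} {j : ℕ} (hj : j < 6) :
    (((if b then el (lb j) else 0 : leechLattice)) : GolayPt → ℤ) = vec (if b then lb j else []) := by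
  cases b
  · simp only [Bool.false_eq_true, if_false]
    rw [vec_nil]
    rfl
  · simp only [if_true]
    exact el_coe (lb_leech hj)

theorem lcv_coe (m : ℕ) : ((lcv m : leechLattice) : GolayPt → ℤ) = vec (lc m) := by
  unfold lcv lc
  simp only [AddSubgroup.coe_add, vec_addL]
  rw [if_coe (by norm_num), if_coe (by norm_num), if_coe (by norm_num), if_coe (by norm_num), if_coe (by norm_num),
    if_coe (by norm_num)]

/-- combinations of the basis -/
noncomputable def cm (m : ℕ) : L2 := cl (lcv m)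

theorem cl_if (b : Bool) (j : ℕ) : cl (if b then el (lb j) else 0) = if b then vb j else 0 := by
  cases b
  · simp
  · simp [vb]

theorem cm_eq (m : ℕ) : cm m = (if m.testBit 0 then vb 0 else 0) + ((if m.testBit 1 then vb 1 else 0) +
    ((if m.testBit 2 then vb 2 else 0) + ((if m.testBit 3 then vb 3 else 0) + ((if m.testBit 4 then vb 4 else 0) +
    (if m.testBit 5 then vb 5 else 0))))) := by
  unfold cm lcv
  simp only [map_add, cl_if]

theorem if_xor (a b : Bool) (v : L2) : (if (a ^^ b) then v else 0) = (if a then v else 0) + (if b then v else 0) := by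
  cases a <;> cases b <;> simp [MonsterU.Lam2.add_self]

theorem cm_xor (a b : ℕ) : cm (a ^^^ b) = cm a + cm b := by
  rw [cm_eq, cm_eq a, cm_eq b]
  simp only [Nat.testBit_xor, if_xor]
  abel

theorem cm_zero : cm 0 = 0 := by
  rw [cm_eq]
  simp

theorem cm_if (b : Bool) (m : ℕ) : cm (if b then m else 0) = if b then cm m else 0 := by
  cases b
  · simp [cm_zero]
  · simp

theorem cm_pow {j : ℕ} (hj : j < 6) : cm (2 ^ j) = vb j := by
  rw [cm_eq]
  interval_cases j <;> simp [Nat.testBit]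

theorem bf_if (b : Bool) (v w : L2) : bf (if b then v else 0) w = if b then bf v w else 0 := by
  cases b
  · simp [MonsterU.Lam2.bf_zero_left]
  · simp

theorem bf_cm (m : ℕ) {j : ℕ} (hj : j < 6) : bf (cm m) (wb j) = if m.testBit j then 1 else 0 := by
  rw [cm_eq]
  simp only [MonsterU.Lam2.bf_add_left, bf_if]
  rw [bf_vb (by norm_num) hj, bf_vb (by norm_num) hj, bf_vb (by norm_num) hj, bf_vb (by norm_num) hj,
    bf_vb (by norm_num) hj, bf_vb (by norm_num) hj]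
  interval_cases j <;> simp

theorem cm_injective {a b : ℕ} (ha : a < 64) (hb : b < 64) (h : cm a = cm b) : a = b := by
  have h1 : ∀ j < 6, a.testBit j = b.testBit j := by
    intro j hj
    have h2 := bf_cm a hj
    rw [h, bf_cm b hj] at h2
    cases h3 : a.testBit j <;> cases h4 : b.testBit j <;> rw [h3, h4] at h2 <;> simp only [↓ _root_.reduceIte, _root_.Bool.false_eq_true, _root_.one_ne_zero, _root_.zero_ne_one] at h2 ⊢
  have h5 : ∀ a < 64, ∀ b < 64, (∀ j < 6, a.testBit j = b.testBit j) → a = b := fun a ha b hb h =>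
    Nat.eq_of_testBit_eq fun j => (Nat.lt_or_ge j 6).elim (h j) fun hj => by
      have k : 2 ^ 6 ≤ 2 ^ j := Nat.pow_le_pow_right (by decide) hj
      rw [Nat.testBit_lt_two_pow (lt_of_lt_of_le ha k), Nat.testBit_lt_two_pow (lt_of_lt_of_le hb k)]
  exact h5 a ha b hb h1

theorem smul_cm (m : ℕ) : s0 • cm m = cm m := by
  have h1 : ∀ (b : Bool) (j : ℕ), j < 6 → s0 • (if b then vb j else 0 : L2) = if b then vb j else 0 := by
    intro b j hj
    cases b
    · simp only [Bool.false_eq_true, if_false]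
      exact smul_zero s0
    · simp only [if_true]
      exact smul_vb hj
  rw [cm_eq]
  simp only [smul_add]
  rw [h1 _ 0 (by norm_num), h1 _ 1 (by norm_num), h1 _ 2 (by norm_num), h1 _ 3 (by norm_num), h1 _ 4 (by norm_num),
    h1 _ 5 (by norm_num)]

theorem exists_cm {x : L2} (hx : s0 • x = x) : ∃ m < 64, cm m = x := by
  let f : Fin 64 → {v : L2 // s0 • v = v} := fun m => ⟨cm m, smul_cm m⟩
  have hf : Function.Injective f := fun a b h => Fin.ext (cm_injective a.2 b.2 (congrArg Subtype.val h))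
  have hc : Nat.card {v : L2 // s0 • v = v} = 64 := fr_s0
  have hfin : Finite {v : L2 // s0 • v = v} := Nat.finite_of_card_ne_zero (by rw [hc]; norm_num)
  have hs := (hf.bijective_of_nat_card_le (by rw [hc, Nat.card_eq_fintype_card, Fintype.card_fin])).2 ⟨x, hx⟩
  obtain ⟨m, hm⟩ := hs
  exact ⟨m, m.2, congrArg Subtype.val hm⟩

/-- `w` on the basis -/
theorem w1_vb {j : ℕ} (hj : j < 6) : w1 • vb j = cm (wcol.getD j 0) := by
  obtain ⟨u, hu⟩ := half_spec (wcol_ok j hj)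
  have h1 : ((w0 • el (lb j) : leechLattice) : GolayPt → ℤ) = vec (ap rW (lb j)) :=
    rep_w0.apply (LThreeMB.Fix.length_of_leechB (lb_leech hj)).le (el_coe (lb_leech hj))
  rw [vec_addL, ← h1, ← lcv_coe] at hu
  apply MonsterU.Lam2.eq_of_add_eq_zero
  show cl (w0 • el (lb j)) + cl (lcv _) = 0
  rw [← map_add]
  exact MonsterU.Lam2.cl_eq_zero.2 ⟨u, Subtype.ext hu⟩

theorem w1_cm (m : ℕ) : w1 • cm m = cm (wm m) := by
  have h1 : ∀ (b : Bool) (j : ℕ), j < 6 → w1 • (if b then vb j else 0 : L2) = cm (if b then wcol.getD j 0 else 0) := by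
    intro b j hj
    rw [cm_if]
    cases b
    · simp only [Bool.false_eq_true, if_false]
      exact smul_zero w1
    · simp only [if_true]
      exact w1_vb hj
  rw [cm_eq]
  simp only [smul_add]
  rw [h1 _ 0 (by norm_num), h1 _ 1 (by norm_num), h1 _ 2 (by norm_num), h1 _ 3 (by norm_num), h1 _ 4 (by norm_num),
    h1 _ 5 (by norm_num)]
  unfold wm
  rw [cm_xor, cm_xor, cm_xor, cm_xor, cm_xor]
  abel

/-! ### Types -/

theorem cm_tb {m : ℕ} (hm : m < 64) : cm m = cl (el (tb m)) := by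
  obtain ⟨h1, h2⟩ := tb_ok m hm
  obtain ⟨u, hu⟩ := half_spec h2
  rw [vec_addL, ← lcv_coe, ← el_coe h1] at hu
  apply MonsterU.Lam2.eq_of_add_eq_zero
  show cl (lcv m) + cl (el (tb m)) = 0
  rw [← map_add]
  exact MonsterU.Lam2.cl_eq_zero.2 ⟨u, Subtype.ext hu⟩

theorem tb_type {m : ℕ} (hm : m < 64) {n : ℤ} (h : dotL (tb m) (tb m) = 16 * n) : IsType n (cm m) := by
  have h1 := (tb_ok m hm).1
  refine ⟨el (tb m), ?_, (cm_tb hm).symm⟩
  rw [el_coe h1, Cfsg.Agent.Leech.Basic.sqNorm_eq_dotInt, dotInt_vec _ _ (LThreeMB.Fix.length_of_leechB h1).le, h]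

theorem type_eq {a b : ℤ} {x : L2} (ha : IsType a x) (hb : IsType b x) (hab : a + b < 8) : a = b := by
  obtain ⟨u, hu, rfl⟩ := ha
  obtain ⟨v, hv, hvu⟩ := hb
  obtain ⟨t, ht⟩ := MonsterU.Lam2.cl_eq.1 hvu
  have h6 : ((v : leechLattice) : GolayPt → ℤ) - (u : leechLattice) = 2 • (t : GolayPt → ℤ) := congrArg Subtype.val ht
  rcases FixCount.sqNorm_congr u.2 t.2 h6 (by rw [hu, hv]; linarith) with h7 | h7
  · rw [h7, hu] at hv
    linarith
  · rw [h7, Cfsg.Agent.Leech.Basic.sqNorm_neg, hu] at hv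
    linarith

theorem not_four {m : ℕ} (hm : m < 64) (h0 : m ≠ 0) (h4 : m ∉ fours) : ¬ IsType 4 (cm m) := by
  intro h
  rcases tb_norm m hm h0 h4 with h1 | h1
  · have h2 := tb_type hm (n := 2) (by rw [h1]; norm_num)
    have h3 := type_eq h2 h (by norm_num)
    norm_num at h3
  · have h2 := tb_type hm (n := 3) (by rw [h1]; norm_num)
    have h3 := type_eq h2 h (by norm_num)
    norm_num at h3

end Cfsg.Agent.CpAutMSeven.Quo
end

private theorem dce_9df565764a73 : _root_.True := by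
  try have : _root_.True := by simp only [_root_.Cfsg.Agent.CpAutMSeven.Quo.w0.eq_1]
  try have : _root_.True := by simp only [_root_.Cfsg.Agent.CpAutMSeven.Quo.vb.eq_1]
  exact _root_.True.intro
end

-- part: CpAutMSeven/RanksClass
section
set_option linter.all false
open scoped Cfsg.Agent.FastGrp

/-!
# The elements of order seven of `Co1` with fixed points are conjugate (helper26)

`classOf : MFive.ClassOf 7 (2 ^ 6)`; `isConj_pow` : `r7` is conjugate to its powers in `Co0`.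
-/

set_option autoImplicit false
set_option maxRecDepth 100000

namespace Cfsg.Agent.CpAutMSeven.Ranks

open Cfsg Cfsg.Agent.SporadicA Cfsg.Agent.SporadicStructure.Co0Matrix Cfsg.Agent.CoOneType.CoEval
open Cfsg.Agent.SporadicStructure.Co0Base
open Cfsg.Agent.LThreeCo1.Ev Cfsg.Agent.CpAutBig.SevenFix
open Cfsg.Agent.LThreeMB (fr fr_conj)
open Cfsg.Spor (Co1)

/-- an element conjugating `r7` to `r7 ^ 3` -/
def G3 : List (List ℤ) := [
  [-3, -5, -1, 1, -1, 1, 1, 1, -3, 1, -1, -1, 1, 1, 1, 1, 1, 1, -1, 1, -1, 1, -1, 1],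
  [5, 3, -1, 1, -1, 1, 1, 1, -3, 1, -1, -1, 1, 1, 1, 1, 1, 1, -1, 1, -1, 1, -1, 1],
  [1, -1, -1, 1, -1, 1, -3, 1, 1, -3, -1, -1, 1, 1, 1, -3, 1, 1, 3, 1, -1, -3, -1, 1],
  [1, -1, -1, 1, -1, -3, 1, 1, 1, 1, -1, -1, 1, -3, -3, 1, -3, 1, 3, 1, -1, 1, -1, 1],
  [1, -1, -1, 1, -1, 1, -3, -3, 1, 1, -1, -1, -3, 1, 1, 1, -3, 1, -1, 1, -1, 1, 3, 1],
  [1, -1, -1, 1, 3, -3, 1, -3, 1, 1, -1, -1, 1, 1, 1, -3, 1, 1, -1, 1, -1, 1, -1, -3],
  [1, -1, 3, 1, 3, 1, -3, 1, 1, 1, -1, -1, 1, 1, -3, 1, 1, 1, -1, 1, 3, 1, -1, 1],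
  [1, -1, 3, 1, -1, 1, 1, -3, 1, -3, -1, -1, 1, -3, 1, 1, 1, -3, -1, 1, -1, 1, -1, 1],
  [-3, 3, -1, 1, -1, 1, 1, 1, 5, 1, -1, -1, 1, 1, 1, 1, 1, 1, -1, 1, -1, 1, -1, 1],
  [1, -1, -1, -3, -1, -3, 1, 1, 1, -3, -1, -1, -3, 1, 1, 1, 1, 1, -1, 1, 3, 1, -1, 1],
  [1, -1, -1, 1, -1, 1, 1, 1, 1, 1, 3, -1, -3, 1, -3, -3, 1, -3, -1, 1, -1, 1, -1, 1],
  [1, -1, -1, 1, 3, 1, 1, 1, 1, 1, -1, -1, -3, -3, 1, 1, 1, 1, -1, -3, -1, -3, -1, 1],
  [1, -1, 3, 1, -1, -3, 1, 1, 1, 1, 3, -1, 1, 1, 1, 1, 1, 1, -1, 1, -1, -3, 3, 1],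
  [1, -1, -1, 1, -1, 1, 1, 1, 1, -3, -1, -1, 1, 1, -3, 1, 1, 1, -1, -3, -1, 1, 3, -3],
  [1, -1, -1, -3, -1, 1, -3, 1, 1, 1, 3, -1, 1, -3, 1, 1, 1, 1, -1, 1, -1, 1, -1, -3],
  [1, -1, -1, 1, -1, 1, 1, -3, 1, 1, 3, -1, 1, 1, 1, 1, 1, 1, 3, -3, 3, 1, -1, 1],
  [1, -1, 3, 1, -1, 1, 1, 1, 1, 1, -1, 3, -3, 1, 1, 1, 1, 1, 3, 1, -1, 1, -1, -3],
  [1, -1, -1, 1, 3, 1, 1, 1, 1, -3, 3, 3, 1, 1, 1, 1, -3, 1, -1, 1, -1, 1, -1, 1],
  [1, -1, -1, 1, -1, 1, 1, 1, 1, 1, -1, -1, 1, 1, 1, 1, -3, -3, -1, 1, 3, -3, -1, -3],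
  [1, -1, -1, -3, 3, 1, 1, 1, 1, 1, -1, -1, 1, 1, 1, 1, 1, -3, 3, 1, -1, 1, 3, 1],
  [1, -1, -1, 1, -1, -3, -3, 1, 1, 1, -1, 3, 1, 1, 1, 1, 1, -3, -1, -3, -1, 1, -1, 1],
  [1, -1, -1, 1, -1, 1, 1, 1, 1, 1, -1, 3, 1, -3, 1, -3, 1, 1, -1, 1, 3, 1, 3, 1],
  [1, -1, 3, -3, -1, 1, 1, 1, 1, 1, -1, -1, 1, 1, 1, -3, -3, 1, -1, -3, -1, 1, -1, 1],
  [1, -1, -1, -3, -1, 1, 1, -3, 1, 1, -1, 3, 1, 1, -3, 1, 1, 1, -1, 1, -1, -3, -1, 1]]

theorem okG : Ok G3 (tr G3) := Cfsg.Agent.CoOneType.CoFast.ok_of_okZ (by exact Cfsg.Agent.CoOneType.CoQ.okz_of (by decide +kernel))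

/-- `G3` and the matrix of `r7` -/
def M3 (i : ℕ) : List (List ℤ) := if i = 0 then G3 else rA

/-- the elements -/
noncomputable def e3 (i : ℕ) : Co0 := if i = 0 then mk okG else r7

theorem rep3 (i : ℕ) : Rep (e3 i) (M3 i) := by
  by_cases h : i = 0
  · rw [e3, M3, if_pos h, if_pos h]; exact rep_mk okG
  · rw [e3, M3, if_neg h, if_neg h]; exact rep

theorem k_conj : eqB M3 [0, 1] [1, 1, 1, 0] = true := by (delta Cfsg.Agent.LThreeCo1.Ev.eqB; rewrite [Cfsg.Agent.CoOneType.CoW.of_eq Cfsg.Agent.LThreeCo1.Ev.foldZ_eq]; decide +kernel)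

theorem conj_three : mk okG * r7 * (mk okG)⁻¹ = r7 ^ 3 := by
  have h := eq_of_eqB rep3 k_conj
  simp only [List.map_cons, List.map_nil, List.prod_cons, List.prod_nil, mul_one] at h
  have h0 : e3 0 = mk okG := rfl
  have h1 : e3 1 = r7 := rfl
  rw [h0, h1] at h
  rw [h, pow_succ, pow_two]
  group

/-- `r7` is conjugate to its powers -/
theorem isConj_pow {n : ℕ} (hn : n % 7 ≠ 0) : IsConj r7 (r7 ^ n) := by
  have hred : ∀ m : ℕ, r7 ^ m = r7 ^ (m % 7) := fun m => by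
    conv_lhs => rw [← Nat.div_add_mod m 7, pow_add, pow_mul, r7_pow, one_pow, one_mul]
  have h3 : ∀ k : ℕ, IsConj r7 (r7 ^ 3 ^ k) := by
    intro k
    induction k with
    | zero => rw [pow_zero, pow_one]
    | succ k ih =>
      obtain ⟨c, hc⟩ := isConj_iff.1 ih
      refine isConj_iff.2 ⟨mk okG * c, ?_⟩
      calc mk okG * c * r7 * (mk okG * c)⁻¹ = mk okG * (c * r7 * c⁻¹) * (mk okG)⁻¹ := by group
        _ = (mk okG * r7 * (mk okG)⁻¹) ^ 3 ^ k := by rw [hc, conj_pow]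
        _ = r7 ^ 3 ^ (k + 1) := by rw [conj_three, ← pow_mul, pow_succ']
  have hlt : n % 7 < 7 := Nat.mod_lt _ (by norm_num)
  rw [hred n]
  interval_cases h : n % 7
  · exact absurd rfl hn
  · rw [pow_one]
  · have h4 := h3 2; rwa [hred] at h4
  · have h4 := h3 1; rwa [hred] at h4
  · have h4 := h3 4; rwa [hred] at h4
  · have h4 := h3 5; rwa [hred] at h4
  · have h4 := h3 3; rwa [hred] at h4

theorem orderOf_mk_r7 : orderOf (QuotientGroup.mk r7 : Co1) = 7 := by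
  have : Fact (Nat.Prime 7) := ⟨by norm_num⟩
  exact orderOf_mk (by norm_num) orderOf_r7

/-- an element of order seven with nonzero fixed points is conjugate to `r7` -/
theorem isConj_of_fr {s : Co1} (hs : orderOf s = 7) (h : fr s ≠ 1) : IsConj s (QuotientGroup.mk r7 : Co1) := by
  obtain ⟨g, i, hi⟩ := conj hs ((hranks s hs).resolve_left h)
  have h1 : IsConj s ((QuotientGroup.mk r7 : Co1) ^ i) := (isConj_iff.2 ⟨g, hi.symm⟩ : IsConj _ s).symm
  have hi7 : i % 7 ≠ 0 := by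
    intro h0
    have h2 : (QuotientGroup.mk r7 : Co1) ^ i = 1 := by
      rw [← Nat.div_add_mod i 7, h0, add_zero, pow_mul, ← orderOf_mk_r7, pow_orderOf_eq_one, one_pow]
    rw [h2, mul_one, mul_inv_cancel] at hi
    rw [hi, orderOf_one] at hs
    norm_num at hs
  obtain ⟨c, hc⟩ := isConj_iff.1 (isConj_pow hi7)
  have h2 : IsConj (QuotientGroup.mk r7 : Co1) ((QuotientGroup.mk r7 : Co1) ^ i) := by
    refine isConj_iff.2 ⟨QuotientGroup.mk c, ?_⟩
    rw [← QuotientGroup.mk_pow, ← hc]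
    rfl
  exact h1.trans h2.symm

theorem classOf : MFive.ClassOf 7 (2 ^ 6) := by
  intro s t hs ht h1 h2
  exact isConj_iff.1 ((isConj_of_fr hs (by rw [h1]; norm_num)).trans (isConj_of_fr ht (by rw [h2]; norm_num)).symm)

end Cfsg.Agent.CpAutMSeven.Ranks

private theorem dce_48aee2a7c113 : _root_.True := by
  try have : _root_.True := by simp only [_root_.Cfsg.Agent.CpAutMSeven.Ranks.M3.eq_1]
  try have : _root_.True := by simp only [_root_.Cfsg.Agent.SporadicStructure.Co0Matrix.mk.congr_simp]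
  try have : _root_.True := by simp only [_root_.Cfsg.Agent.CpAutMSeven.Ranks.e3.eq_1]
  exact _root_.True.intro
end
end
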